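import Cfsg.Agent.Bender43.Center
import Cfsg.Agent.Bender85.BadTop.Tools
import Cfsg.Agent.Bender85.Comm.NoExact
import Cfsg.Agent.PN72.Strong

/-!
Tools for an odd subgroup normalised by an involution and for cores of odd subgroups.
-/

set_option autoImplicit false
set_option linter.style.haveILetI false
set_option linter.unusedSectionVars false

open Subgroup

namespace Cfsg.Agent.ThreePrime73

variable {G : Type*} [Group G] [Finite G]

omit [Finite G] in
theorem inv_self {t : G} (ht : orderOf t = 2) : t⁻¹ = t :=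
  inv_eq_of_mul_eq_one_right (by rw [← sq, ← ht, pow_orderOf_eq_one])

omit [Finite G] in
theorem conj_conj {t : G} (ht : orderOf t = 2) (x : G) : t * (t * x * t⁻¹) * t⁻¹ = x := by
  have h : t * t = 1 := by rw [← sq, ← ht, pow_orderOf_eq_one]
  calc t * (t * x * t⁻¹) * t⁻¹ = (t * t) * x * (t * t)⁻¹ := by group
    _ = x := by rw [h]; group

omit [Finite G] in
theorem commute_iff_conj {t x : G} : Commute t x ↔ t * x * t⁻¹ = x :=
  ⟨fun h => by rw [h.eq, mul_inv_cancel_right], fun h => mul_inv_eq_iff_eq_mul.1 h⟩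

omit [Finite G] in
theorem odd_pow_eq {x : G} (h : Odd (orderOf x)) : ∃ e : ℕ, x ^ (2 * e) = x := by
  obtain ⟨k, hk⟩ := h
  refine ⟨k + 1, ?_⟩
  rw [show 2 * (k + 1) = orderOf x + 1 by omega, pow_succ, pow_orderOf_eq_one, one_mul]

theorem odd_orderOf {P : Subgroup G} (hP : Odd (Nat.card P)) {x : G} (hx : x ∈ P) :
    Odd (orderOf x) :=
  hP.of_dvd_nat (Subgroup.orderOf_dvd_natCard P hx)

theorem odd_of_le {P Q : Subgroup G} (hQ : Odd (Nat.card Q)) (h : P ≤ Q) : Odd (Nat.card P) :=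
  hQ.of_dvd_nat (card_dvd_of_le h)

omit [Finite G] in
theorem eq_one_of_inv_eq {x : G} (h : Odd (orderOf x)) (hx : x⁻¹ = x) : x = 1 := by
  obtain ⟨e, he⟩ := odd_pow_eq h
  have h2 : x * x = 1 := mul_eq_one_iff_eq_inv.2 hx.symm
  rw [← he, pow_mul, sq, h2, one_pow]

theorem coprime_two {P : Subgroup G} (hP : Odd (Nat.card P)) : (Nat.card P).Coprime 2 :=
  Nat.coprime_two_right.2 hP

theorem odd_op' (D : Subgroup G) : Odd (Nat.card (Bender43.op' 2 D)) :=
  Nat.coprime_two_right.1 (Bender43.card_op'_coprime 2 D)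

/-- An involution without fixed points on an odd group inverts it. -/
theorem inverts_of_fixed_bot {t : G} (ht : orderOf t = 2) {P : Subgroup G}
    (htP : t ∈ normalizer (P : Set G))
    (hfix : ∀ x ∈ P, Commute t x → x = 1) : ∀ x ∈ P, t * x * t⁻¹ = x⁻¹ := by
  have hm : ∀ x ∈ P, t * x * t⁻¹ ∈ P := fun x hx => (mem_normalizer_iff.1 htP x).1 hx
  let f : P → P := fun x => ⟨(x : G)⁻¹ * (t * x * t⁻¹), mul_mem (inv_mem x.2) (hm x x.2)⟩
  have hf : Function.Injective f := by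
    intro x y hxy
    have h : (x : G)⁻¹ * (t * x * t⁻¹) = (y : G)⁻¹ * (t * y * t⁻¹) := congrArg Subtype.val hxy
    have h2 : t * ((y : G) * (x : G)⁻¹) * t⁻¹ = (y : G) * (x : G)⁻¹ := by
      calc t * ((y : G) * (x : G)⁻¹) * t⁻¹
          = (y : G) * ((y : G)⁻¹ * (t * y * t⁻¹)) * ((t * x * t⁻¹))⁻¹ := by group
        _ = (y : G) * ((x : G)⁻¹ * (t * x * t⁻¹)) * ((t * x * t⁻¹))⁻¹ := by rw [h]
        _ = _ := by group
    have h3 := hfix _ (mul_mem y.2 (inv_mem x.2)) (commute_iff_conj.2 h2)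
    exact Subtype.ext (inv_inj.1 (eq_inv_of_mul_eq_one_right h3)).symm.symm
  intro x hx
  obtain ⟨⟨z, hz⟩, hzx⟩ := (Finite.injective_iff_surjective.1 hf) ⟨x, hx⟩
  have h : z⁻¹ * (t * z * t⁻¹) = x := congrArg Subtype.val hzx
  rw [← h]
  calc t * (z⁻¹ * (t * z * t⁻¹)) * t⁻¹ = (t * z * t⁻¹)⁻¹ * (t * (t * z * t⁻¹) * t⁻¹) := by group
    _ = _ := by rw [conj_conj ht]; group

theorem exists_fixed_mul {t : G} (ht : orderOf t = 2) {P : Subgroup G} (hP : Odd (Nat.card P))
    (htP : t ∈ normalizer (P : Set G)) {w : G} (hw : w ∈ P) :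
    ∃ i : ℕ, Commute t (w * (w⁻¹ * (t * w * t⁻¹)) ^ i) := by
  set y := w⁻¹ * (t * w * t⁻¹) with hy
  have hyP : y ∈ P := mul_mem (inv_mem hw) ((mem_normalizer_iff.1 htP w).1 hw)
  obtain ⟨i, hi⟩ := odd_pow_eq (odd_orderOf hP hyP)
  refine ⟨i, commute_iff_conj.2 ?_⟩
  have hty : t * y * t⁻¹ = y⁻¹ := by
    rw [hy]
    calc t * (w⁻¹ * (t * w * t⁻¹)) * t⁻¹ = (t * w * t⁻¹)⁻¹ * (t * (t * w * t⁻¹) * t⁻¹) := by group
      _ = _ := by rw [conj_conj ht]; group
  calc t * (w * y ^ i) * t⁻¹ = (t * w * t⁻¹) * (t * y * t⁻¹) ^ i := by rw [conj_pow]; group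
    _ = w * y * (y⁻¹) ^ i := by rw [hty, show t * w * t⁻¹ = w * y by rw [hy]; group]
    _ = w * y ^ (2 * i) * (y ^ i)⁻¹ := by rw [hi, inv_pow]
    _ = _ := by rw [two_mul, pow_add]; group

omit [Finite G] in
theorem mem_normalizer_op {p : ℕ} {D : Subgroup G} {g : G} (hg : g ∈ normalizer (D : Set G)) :
    g ∈ normalizer ((Bender43.op p D : Subgroup G) : Set G) :=
  OddLocal43.normalizes_map_characteristic (Cfsg.pCore p D) hg

theorem mem_op_of_centralizes {H : Subgroup G} (hH : Odd (Nat.card H)) {s : ℕ} [Fact s.Prime]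
    {v : G} (hv : v ∈ H) {j : ℕ} (hj : orderOf v = s ^ j)
    (hc : ∀ q : ℕ, q.Prime → ∀ x ∈ Bender43.op q H, Commute v x) : v ∈ Bender43.op s H := by
  haveI := Bender43.solvable_of_odd hH
  refine ⟨⟨v, hv⟩, FG72.mem_pCore_of_fitting ?_ (j := j) (by rw [Subgroup.orderOf_mk]; exact hj), rfl⟩
  refine Fitting.centralizer_fitting_le (mem_centralizer_iff.2 fun w hw => ?_)
  have hle : Cfsg.fittingSubgroup H ≤ centralizer ({⟨v, hv⟩} : Set H) := by
    rw [Fitting.fitting_eq_iSup_pCore, iSup_le_iff]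
    rintro ⟨q, hq⟩ x hx
    exact mem_centralizer_singleton_iff.2 (Subtype.ext (hc q hq _ ⟨x, hx, rfl⟩).eq.symm)
  exact mem_centralizer_singleton_iff.1 (hle hw)

/-- An involution centralising all cores of an odd group centralises it. -/
theorem commute_of_cores {H : Subgroup G} (hH : Odd (Nat.card H)) {t : G} (ht : orderOf t = 2)
    (htH : t ∈ normalizer (H : Set G))
    (hc : ∀ q : ℕ, q.Prime → ∀ x ∈ Bender43.op q H, Commute t x) :
    ∀ x ∈ H, Commute t x := by
  haveI := Bender43.solvable_of_odd hH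
  intro x hx
  have htx : t * x * t⁻¹ ∈ H := (mem_normalizer_iff.1 htH x).1 hx
  set c : H := ⟨x⁻¹ * (t * x * t⁻¹), mul_mem (inv_mem hx) htx⟩ with hcdef
  have hct : ∀ q : ℕ, q.Prime → ∀ f ∈ Bender43.op q H, Commute (c : G) f := by
    intro q hq f hf
    have h1 := hc q hq _ hf
    have h2 := hc q hq _ ((mem_normalizer_iff.1 (mem_normalizer_op (le_normalizer hx)) f).1 hf)
    refine (commute_iff_conj).2 ?_
    show x⁻¹ * (t * x * t⁻¹) * f * (x⁻¹ * (t * x * t⁻¹))⁻¹ = f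
    calc x⁻¹ * (t * x * t⁻¹) * f * (x⁻¹ * (t * x * t⁻¹))⁻¹
        = x⁻¹ * (t * x * (t⁻¹ * f * t) * x⁻¹ * t⁻¹) * x := by group
      _ = x⁻¹ * (t * x * f * x⁻¹ * t⁻¹) * x := by
          rw [show t⁻¹ * f * t = f by rw [mul_assoc, ← h1.eq, inv_mul_cancel_left]]
      _ = x⁻¹ * (t * (x * f * x⁻¹) * t⁻¹) * x := by group
      _ = f := by rw [commute_iff_conj.1 h2]; group
  have hcF : c ∈ Cfsg.fittingSubgroup H := by
    refine Fitting.centralizer_fitting_le (mem_centralizer_iff.2 fun w hw => ?_)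
    have hle : Cfsg.fittingSubgroup H ≤ centralizer ({c} : Set H) := by
      rw [Fitting.fitting_eq_iSup_pCore, iSup_le_iff]
      rintro ⟨q, hq⟩ y hy
      exact mem_centralizer_singleton_iff.2 (Subtype.ext (hct q hq _ ⟨y, hy, rfl⟩).eq.symm)
    exact mem_centralizer_singleton_iff.1 (hle hw)
  have hle : Cfsg.fittingSubgroup H ≤ (centralizer ({t} : Set G)).comap H.subtype := by
    rw [Fitting.fitting_eq_iSup_pCore, iSup_le_iff]
    rintro ⟨q, hq⟩ y hy
    exact mem_centralizer_singleton_iff.2 (hc q hq _ ⟨y, hy, rfl⟩).eq.symm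
  have h3 : Commute t (c : G) := (mem_centralizer_singleton_iff.1 (hle hcF)).symm
  have h4 : t * (c : G) * t⁻¹ = (c : G)⁻¹ := by
    show t * (x⁻¹ * (t * x * t⁻¹)) * t⁻¹ = (x⁻¹ * (t * x * t⁻¹))⁻¹
    calc t * (x⁻¹ * (t * x * t⁻¹)) * t⁻¹
        = (t * x * t⁻¹)⁻¹ * (t * (t * x * t⁻¹) * t⁻¹) := by group
      _ = _ := by rw [conj_conj ht]; group
  rw [commute_iff_conj.1 h3] at h4
  have h5 : (c : G) = 1 := eq_one_of_inv_eq (odd_orderOf hH c.2) h4.symm
  exact commute_iff_conj.2 (inv_mul_eq_one.1 h5).symm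

/-- A `p`-group `P` meeting `Y` inside a nontrivial `p`-group `U` with `N(U) ≤ Y` lies in `U`. -/
theorem le_of_norm_le {p : ℕ} [Fact p.Prime] {P U Y : Subgroup G} (hP : IsPGroup p P)
    (hU : IsPGroup p U) (hn : U ≤ normalizer (P : Set G)) (hNU : normalizer (U : Set G) ≤ Y)
    (hPY : P ⊓ Y ≤ U) : P ≤ U := by
  by_contra hle
  set X := P ⊔ U
  have hX : IsPGroup p X := hU.to_sup_of_normal_right' hP hn |> fun h => by
    rwa [show X = U ⊔ P from sup_comm _ _]
  have hlt : U.subgroupOf X ≠ ⊤ := fun h => hle (le_sup_left.trans (subgroupOf_eq_top.1 h))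
  obtain ⟨x, hxN, hxU⟩ := SetLike.exists_of_lt (PGroup.lt_normalizer hX hlt)
  have hxY : (x : G) ∈ Y := by
    refine hNU (mem_normalizer_iff.2 fun y => ?_)
    by_cases hy : y ∈ X
    · have := mem_normalizer_iff.1 hxN ⟨y, hy⟩
      simpa [mem_subgroupOf] using this
    · constructor
      · exact fun h => (hy (le_sup_right (a := P) h)).elim
      · intro h
        refine (hy ?_).elim
        have := mul_mem (mul_mem (inv_mem x.2) (le_sup_right (a := P) h)) x.2
        simpa [mul_assoc] using this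
  have hx : (x : G) ∈ ((P ⊔ U : Subgroup G) : Set G) := x.2
  rw [coe_mul_of_right_le_normalizer_left P U hn] at hx
  obtain ⟨a, ha, u, hu, he⟩ := hx
  have hau : a ∈ Y := by
    have : a = (x : G) * u⁻¹ := by rw [← he]; group
    rw [this]
    exact mul_mem hxY (inv_mem (hNU (le_normalizer hu)))
  refine hxU (mem_subgroupOf.2 ?_)
  rw [← he]
  exact mul_mem (hPY ⟨ha, hau⟩) hu

theorem max_map_conj {p : ℕ} {T L : Subgroup G} (hT : Bender85.BadTop.Max p T L) {g : G}
    (hg : g ∈ normalizer (L : Set G)) :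
    Bender85.BadTop.Max p (T.map (MulAut.conj g).toMonoidHom) L := by
  have hL := mem_normalizer_iff_map_conj_eq.1 hg
  refine ⟨hT.pgroup.map _, hL ▸ map_mono hT.le, ?_⟩
  have h := relIndex_map_map_of_injective (f := (MulAut.conj g).toMonoidHom) T L
    (MulAut.conj g).injective
  erw [hL] at h
  rw [h]
  exact hT.coprime

end Cfsg.Agent.ThreePrime73
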