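import Cfsg.Agent.ThreePrime72.Defs
import Cfsg.Agent.ThreePrime73.Tools
import Cfsg.Agent.ThreePrime82.Structure

/-!
The action of a subgroup on a Suzuki layer: used for the subgroups over the centraliser of a bad
involution.
-/

set_option autoImplicit false
set_option linter.style.haveILetI false
set_option linter.unusedSectionVars false

open Subgroup

namespace Cfsg.Agent.ThreePrime73

universe u

section SzU

variable {L : Type u} [Group L] [Finite L] {U : Subgroup L}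

/-- What is used of the involutions `U` of a Sylow `2`-subgroup of a Suzuki group. -/
structure UData (U : Subgroup L) : Prop where
  center : Subgroup.center L = ⊥
  nontriv : ∃ u ∈ U, u ≠ 1
  inner : ∀ α : MulAut L, α ^ 2 = 1 → (∀ u ∈ U, α u = u) → ∃ z ∈ U, α = MulAut.conj z
  odd : ∀ J : Subgroup L, Odd (Nat.card J) → U ≤ normalizer (J : Set L) → J = ⊥
  fix : ∀ u ∈ U, u ≠ 1 → ∀ β : MulAut L, Odd (orderOf β) →
    (∀ c ∈ centralizer ({u} : Set L), β c = c) → β = 1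

theorem uData_of (h : ThreePrime72.IsSzU L U) : UData U := by
  classical
  haveI : Fact (Nat.Prime 2) := ⟨Nat.prime_two⟩
  obtain ⟨hL, P, hU⟩ := h
  have hB := ThreePrime82.balData_of_isoSuzuki hL
  have hS := ThreePrime82.sylData_of_isoSuzuki hL
  have hord : ∀ u ∈ U, u ≠ 1 → orderOf u = 2 := fun u hu h1 =>
    orderOf_eq_prime (by rw [pow_two, ((hU u).1 hu).2]) h1
  have hC : ∀ u ∈ U, u ≠ 1 → centralizer ({u} : Set L) = (P : Subgroup L) := fun u hu h1 =>
    P.is_maximal' (hB.two u (hord u hu h1)) fun y hy => mem_centralizer_singleton_iff.2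
      (hS.central P u ((hU u).1 hu).1 ((hU u).1 hu).2 y hy)
  obtain ⟨u, hu, hu1⟩ : ∃ u ∈ U, u ≠ 1 := by
    have hP : (P : Subgroup L) ≠ ⊥ := fun e => hS.noncomm P ⟨⟨fun a b => by
      have h1 : ∀ c : (P : Subgroup L), c = 1 := fun c =>
        Subtype.ext ((Subgroup.eq_bot_iff_forall _).1 e c c.2)
      rw [h1 a, h1 b]⟩⟩
    obtain ⟨x, hx, hx1, hx2⟩ :=
      PGroup.exists_mem_pow_eq_one (H := ⊤) P.isPGroup'
        (by
          intro e
          apply hP
          rw [eq_bot_iff_forall]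
          intro y hy
          exact congrArg Subtype.val ((Subgroup.eq_bot_iff_forall _).1 e ⟨y, hy⟩ (mem_top _)))
    refine ⟨x, (hU _).2 ⟨x.2, ?_⟩, fun e => hx1 (Subtype.ext e)⟩
    rw [← pow_two]
    exact congrArg Subtype.val hx2
  refine ⟨hB.center, ⟨u, hu, hu1⟩, fun α hα hfix => ?_, fun J hJ hn => ?_,
    fun v hv hv1 β hβ hc => hB.fix v β (hord v hv hv1) hβ hc⟩
  · obtain ⟨g, rfl⟩ := hB.inner α hα
    have hg2 : g * g = 1 := by
      have h1 : g * g ∈ Subgroup.center L := by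
        rw [mem_center_iff]
        intro y
        have h2 : MulAut.conj (g * g) y = y := by
          rw [map_mul, ← pow_two, hα, MulAut.one_apply]
        rw [MulAut.conj_apply, mul_inv_eq_iff_eq_mul] at h2
        exact h2.symm
      rwa [hB.center, mem_bot] at h1
    refine ⟨g, (hU g).2 ⟨?_, hg2⟩, rfl⟩
    rw [← hC u hu hu1, mem_centralizer_singleton_iff]
    have h3 := hfix u hu
    rwa [MulAut.conj_apply, mul_inv_eq_iff_eq_mul] at h3
  · obtain ⟨v, hvP, hv2, hv1, hvu⟩ := hS.other P u ((hU u).1 hu).1 hu1 ((hU u).1 hu).2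
    have hel : Cfsg.IsElementaryAbelian 2 U := by
      refine ⟨⟨⟨fun a b => Subtype.ext ?_⟩⟩, fun a ha => by rw [pow_two]; exact ((hU a).1 ha).2⟩
      exact (hS.central P b ((hU _).1 b.2).1 ((hU _).1 b.2).2 a ((hU _).1 a.2).1)
    haveI : Fintype U := Fintype.ofFinite U
    have h3 : 3 ≤ Nat.card U := by
      rw [Nat.card_eq_fintype_card]
      refine le_trans ?_ (Finset.card_le_univ
        ({1, ⟨u, hu⟩, ⟨v, (hU v).2 ⟨hvP, hv2⟩⟩} : Finset U))
      rw [Finset.card_insert_of_notMem, Finset.card_insert_of_notMem, Finset.card_singleton]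
      · simp only [Finset.mem_singleton, Subtype.mk.injEq]
        exact fun e => hvu e.symm
      · simp only [Finset.mem_insert, Finset.mem_singleton]
        rintro (e | e)
        · exact hu1 (congrArg Subtype.val e).symm
        · exact hv1 (congrArg Subtype.val e).symm
    refine le_bot_iff.1 (PN72.le_of_gen hel h3 hn hJ.not_two_dvd_nat fun b hb hb1 => ?_)
    rintro x ⟨hx, hxb⟩
    rw [mem_bot]
    have hx' : x ∈ (P : Subgroup L) := hC b hb hb1 ▸ hxb
    obtain ⟨k, hk⟩ := P.isPGroup' ⟨x, hx'⟩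
    exact orderOf_eq_one_iff.1 (Nat.eq_one_of_dvd_coprimes
      ((Nat.coprime_two_right.2 (odd_orderOf hJ hx)).pow_right k) dvd_rfl
      (orderOf_dvd_of_pow_eq_one (congrArg Subtype.val hk : x ^ 2 ^ k = 1)))

end SzU

variable {G : Type u} [Group G] [Finite G]

section Act

variable {L : Type*} [Group L] {Y K : Subgroup G} (f : K →* L)
  (hn : Y ≤ normalizer (K : Set G))

/-- The map `k ↦ f (y k y⁻¹)`. -/
def conjHom (y : Y) : K →* L :=
  f.comp
    { toFun := fun k => ⟨(y : G) * k * (y : G)⁻¹, (mem_normalizer_iff.1 (hn y.2) k).1 k.2⟩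
      map_one' := Subtype.ext (by simp)
      map_mul' := fun a b => Subtype.ext (by simp [mul_assoc]) }

theorem conjHom_apply (y : Y) (k : K) (x : G) (hx : x = (y : G) * k * (y : G)⁻¹) (hxK : x ∈ K) :
    conjHom f hn y k = f ⟨x, hxK⟩ := by
  subst hx
  rfl

theorem conjHom_eq_of_map_eq (hker : Y ≤ normalizer ((f.ker.map K.subtype : Subgroup G) : Set G))
    (y : Y) {k k' : K} (h : f k = f k') : conjHom f hn y k = conjHom f hn y k' := by
  have h1 : k⁻¹ * k' ∈ f.ker := by rw [MonoidHom.mem_ker, map_mul, map_inv, h, inv_mul_cancel]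
  obtain ⟨d, hd, he⟩ :=
    (mem_normalizer_iff.1 (hker y.2) _).1 (⟨k⁻¹ * k', h1, rfl⟩ : _ ∈ f.ker.map K.subtype)
  have h2 : conjHom f hn y (k⁻¹ * k') = 1 := by
    rw [conjHom_apply f hn y (k⁻¹ * k') (d : G) he d.2]
    exact hd
  rw [map_mul, map_inv, inv_mul_eq_one] at h2
  exact h2

variable (hf : Function.Surjective f)
  (hker : Y ≤ normalizer ((f.ker.map K.subtype : Subgroup G) : Set G))

/-- The image of `x` under the automorphism induced by `y`. -/
noncomputable def actFun (y : Y) (x : L) : L :=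
  conjHom f hn y (Function.surjInv hf x)

include hker in
theorem actFun_apply (y : Y) (k : K) : actFun f hn hf y (f k) = conjHom f hn y k :=
  conjHom_eq_of_map_eq f hn hker y (Function.surjInv_eq hf _)

include hker in
theorem actFun_actFun (y z : Y) (x : L) :
    actFun f hn hf y (actFun f hn hf z x) = actFun f hn hf (y * z) x := by
  obtain ⟨k, rfl⟩ := hf x
  rw [actFun_apply f hn hf hker z k, actFun_apply f hn hf hker (y * z) k]
  show actFun f hn hf y (f _) = _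
  rw [actFun_apply f hn hf hker y]
  exact congrArg f (Subtype.ext (by simp [mul_assoc]))

include hker in
theorem actFun_one (x : L) : actFun f hn hf 1 x = x := by
  obtain ⟨k, rfl⟩ := hf x
  rw [actFun_apply f hn hf hker 1 k]
  exact congrArg f (Subtype.ext (by simp))

/-- The action of `Y` on the quotient. -/
noncomputable def act : Y →* MulAut L where
  toFun y :=
    { toFun := actFun f hn hf y
      invFun := actFun f hn hf y⁻¹
      left_inv := fun x => by rw [actFun_actFun f hn hf hker, inv_mul_cancel, actFun_one f hn hf hker]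
      right_inv := fun x => by rw [actFun_actFun f hn hf hker, mul_inv_cancel, actFun_one f hn hf hker]
      map_mul' := fun a b => by
        obtain ⟨k, rfl⟩ := hf a
        obtain ⟨l, rfl⟩ := hf b
        rw [← map_mul, actFun_apply f hn hf hker, actFun_apply f hn hf hker,
          actFun_apply f hn hf hker, map_mul] }
  map_one' := MulEquiv.ext fun x => actFun_one f hn hf hker x
  map_mul' y z := MulEquiv.ext fun x => (actFun_actFun f hn hf hker y z x).symm

theorem act_apply (y : Y) (k : K) (x : G) (hx : x = (y : G) * k * (y : G)⁻¹) (hxK : x ∈ K) :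
    act f hn hf hker y (f k) = f ⟨x, hxK⟩ :=
  (actFun_apply f hn hf hker y k).trans (conjHom_apply f hn y k x hx hxK)

end Act

/-- A subgroup with a Suzuki layer: an involution centralising `A`, and the odd subgroups
normalised by the part in `M`. -/
theorem layer_facts {A M Y K : Subgroup G} (D : ThreePrime72.XData A Y K)
    (hAM : A ≤ M) (hNM : normalizer (A : Set G) ≤ M) (hOM : Bender43.op' 2 Y ≤ M)
    (hconj : ∀ a ∈ A, a ≠ 1 → ∀ g : G, g * a * g⁻¹ ∈ M → g ∈ M) :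
    (∀ t ∈ M, orderOf t = 2 → centralizer ({t} : Set G) ≤ Y → ¬ centralizer ({t} : Set G) ≤ M →
        (∀ a ∈ A, Commute t a) → ∀ y ∈ Y, y⁻¹ * t * y ∈ M) ∧
      ∀ B : Subgroup G, B ≤ Y ⊓ M → Odd (Nat.card B) → Y ⊓ M ≤ normalizer (B : Set G) →
        B ≤ Bender43.op' 2 Y := by
  obtain ⟨hKY, hKn, hdec, hAK, L, iL, f, hf, hker, hU⟩ := D
  haveI : Finite L := Finite.of_surjective f hf
  have hD := uData_of hU
  have hOY : Y ≤ normalizer ((Bender43.op' 2 Y : Subgroup G) : Set G) :=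
    Bender43.le_normalizer_op' 2 Y
  have hker' : Y ≤ normalizer ((f.ker.map K.subtype : Subgroup G) : Set G) := by
    rw [hker]; exact hOY
  set Φ := act f hKn hf hker'
  have hO : ∀ x : K, f x = 1 → (x : G) ∈ Bender43.op' 2 Y := fun x hx => by
    have h1 : (x : G) ∈ f.ker.map K.subtype := ⟨x, hx, rfl⟩
    rwa [hker] at h1
  -- an element fixing a point of the image of `A#` lies in `M`
  have hstab : ∀ a (ha : a ∈ A), f ⟨a, hAK ha⟩ ≠ 1 → ∀ c ∈ Y, ∀ x (hxK : x ∈ K),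
      x = c * a * c⁻¹ → f ⟨x, hxK⟩ = f ⟨a, hAK ha⟩ → c ∈ M := by
    intro a ha hne c _ x hxK hx he
    refine hconj a ha (fun e => hne (by subst e; exact map_one f)) c ?_
    have h1 := hO (⟨a, hAK ha⟩⁻¹ * ⟨x, hxK⟩) (by rw [map_mul, map_inv, he, inv_mul_cancel])
    have h2 := mul_mem (hAM ha) (hOM h1)
    simp only [Subgroup.coe_mul, Subgroup.coe_inv, mul_inv_cancel_left] at h2
    rwa [← hx]
  refine ⟨fun t htM ht hCY hbad hcen => ?_, fun B hB hBodd hBn => ?_⟩
  · -- `t` centralises the layer modulo the core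
    have htY : t ∈ Y := hCY (mem_centralizer_singleton_iff.2 rfl)
    have htt : t * t = 1 := by rw [← pow_two, ← ht, pow_orderOf_eq_one]
    set α := Φ ⟨t, htY⟩ with hα
    have hα2 : α ^ 2 = 1 := by
      rw [hα, ← map_pow, show (⟨t, htY⟩ : Y) ^ 2 = 1 from Subtype.ext (by simp [pow_two, htt]),
        map_one]
    obtain ⟨z, hz, hαz⟩ := hD.inner α hα2 fun v hv => by
      obtain ⟨⟨a, haK⟩, ha, rfl⟩ := hv
      rw [hα, act_apply f hKn hf hker' ⟨t, htY⟩ ⟨a, haK⟩ a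
        (commute_iff_conj.1 (hcen a ha)).symm haK]
    have hz1 : z = 1 := by
      by_contra hne
      obtain ⟨⟨a, haK⟩, ha, rfl⟩ := hz
      refine hbad fun c hc => ?_
      have hcY := hCY hc
      have hct : (⟨c, hcY⟩ : Y) * ⟨t, htY⟩ = ⟨t, htY⟩ * ⟨c, hcY⟩ :=
        Subtype.ext (mem_centralizer_singleton_iff.1 hc)
      have h1 : Φ ⟨c, hcY⟩ * α = α * Φ ⟨c, hcY⟩ := by rw [hα, ← map_mul, hct, map_mul]
      rw [hαz] at h1
      have h2 : Φ ⟨c, hcY⟩ (f ⟨a, haK⟩) = f ⟨a, haK⟩ := by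
        have h3 : ∀ x : L, Φ ⟨c, hcY⟩ (f ⟨a, haK⟩) * x * (Φ ⟨c, hcY⟩ (f ⟨a, haK⟩))⁻¹ =
            f ⟨a, haK⟩ * x * (f ⟨a, haK⟩)⁻¹ := fun x => by
          have h4 := DFunLike.congr_fun h1 ((Φ ⟨c, hcY⟩).symm x)
          simpa [MulAut.conj_apply] using h4
        have h5 : (f ⟨a, haK⟩)⁻¹ * Φ ⟨c, hcY⟩ (f ⟨a, haK⟩) ∈ Subgroup.center L := by
          rw [mem_center_iff]
          intro x
          calc x * ((f ⟨a, haK⟩)⁻¹ * Φ ⟨c, hcY⟩ (f ⟨a, haK⟩))
              = (f ⟨a, haK⟩)⁻¹ * (f ⟨a, haK⟩ * x * (f ⟨a, haK⟩)⁻¹) *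
                  Φ ⟨c, hcY⟩ (f ⟨a, haK⟩) := by group
            _ = _ := by rw [← h3 x]; group
        rw [hD.center, mem_bot, inv_mul_eq_one] at h5
        exact h5.symm
      have hcK : c * a * c⁻¹ ∈ K := (mem_normalizer_iff.1 (hKn hcY) a).1 haK
      rw [act_apply f hKn hf hker' ⟨c, hcY⟩ ⟨a, haK⟩ (c * a * c⁻¹) rfl hcK] at h2
      exact hstab a ha hne c hcY _ hcK rfl h2
    rw [hz1, map_one] at hαz
    intro y hy
    obtain ⟨k, hk, n, hn, -, rfl⟩ := hdec y hy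
    have hdK : t * k⁻¹ * t⁻¹ ∈ K := (mem_normalizer_iff.1 (hKn htY) _).1 (inv_mem hk)
    have h1 : f ⟨t * k⁻¹ * t⁻¹, hdK⟩ = (f ⟨k, hk⟩)⁻¹ := by
      rw [← act_apply f hKn hf hker' ⟨t, htY⟩ ⟨k⁻¹, inv_mem hk⟩ (t * k⁻¹ * t⁻¹) rfl hdK,
        show Φ ⟨t, htY⟩ = 1 from hαz, MulAut.one_apply, ← map_inv]
      rfl
    have h2 := hOM (hO (⟨t * k⁻¹ * t⁻¹, hdK⟩ * ⟨k, hk⟩) (by rw [map_mul, h1, inv_mul_cancel]))
    have h3 := mul_mem (mul_mem (inv_mem (hNM hn)) (mul_mem htM h2)) (hNM hn)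
    simp only [Subgroup.coe_mul] at h3
    rwa [show t * (t * k⁻¹ * t⁻¹ * k) = k⁻¹ * t * k by
        rw [inv_self ht, ← mul_assoc, ← mul_assoc t (t * k⁻¹), ← mul_assoc t t, htt, one_mul],
      show n⁻¹ * (k⁻¹ * t * k) * n = (k * n)⁻¹ * t * (k * n) by group] at h3
  · -- an odd subgroup normal in `Y ⊓ M`
    set J : Subgroup L := ((B ⊓ K).subgroupOf K).map f with hJ
    have hJodd : Odd (Nat.card J) := by
      refine Odd.of_dvd_nat ?_ (Subgroup.card_map_dvd _ _)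
      rw [Nat.card_congr (subgroupOfEquivOfLe (inf_le_right : B ⊓ K ≤ K)).toEquiv]
      exact odd_of_le hBodd inf_le_left
    have hJbot : J = ⊥ := by
      refine hD.odd J hJodd ?_
      refine (map_mono ?_).trans (le_normalizer_map _)
      intro a ha
      have haA : (a : G) ∈ A := ha
      refine Coprime.mem_normalizer_of_le_iff (fun x hx => ?_) (fun x hx => ?_)
      · exact ⟨(mem_normalizer_iff.1 (hBn ⟨hKY a.2, hAM haA⟩) _).1 hx.1,
          (a * x * a⁻¹ : K).2⟩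
      · exact ⟨(mem_normalizer_iff''.1 (hBn ⟨hKY a.2, hAM haA⟩) _).1 hx.1,
          (a⁻¹ * x * a : K).2⟩
    have htriv : ∀ x (hxK : x ∈ K), x ∈ B → f ⟨x, hxK⟩ = 1 := fun x hxK hxB => by
      have h1 : f ⟨x, hxK⟩ ∈ J := ⟨⟨x, hxK⟩, ⟨hxB, hxK⟩, rfl⟩
      rwa [hJbot, mem_bot] at h1
    obtain ⟨v, hv, hv1⟩ := hD.nontriv
    obtain ⟨⟨a, haK⟩, ha, rfl⟩ := hv
    have hcomm : ∀ b ∈ B, ∀ k ∈ K, b * k * b⁻¹ * k⁻¹ ∈ Bender43.op' 2 Y := by
      intro b hb
      have hbY : b ∈ Y := (hB hb).1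
      have hβ : Φ ⟨b, hbY⟩ = 1 := by
        refine hD.fix _ ⟨⟨a, haK⟩, ha, rfl⟩ hv1 _ ?_ fun c hc => ?_
        · refine Odd.of_dvd_nat ?_ (orderOf_map_dvd Φ ⟨b, hbY⟩)
          rw [Subgroup.orderOf_mk]
          exact odd_orderOf hBodd hb
        obtain ⟨⟨k, hk⟩, rfl⟩ := hf c
        rw [mem_centralizer_singleton_iff] at hc
        have hxK : k * a * k⁻¹ ∈ K := mul_mem (mul_mem hk haK) (inv_mem hk)
        have hkM : k ∈ M := hstab a ha hv1 k (hKY hk) _ hxK rfl (by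
          rw [show (⟨k * a * k⁻¹, hxK⟩ : K) = ⟨k, hk⟩ * ⟨a, haK⟩ * ⟨k, hk⟩⁻¹ from rfl, map_mul,
            map_mul, hc, map_inv, mul_inv_cancel_right])
        have hbK : b * k * b⁻¹ ∈ K := (mem_normalizer_iff.1 (hKn hbY) k).1 hk
        rw [act_apply f hKn hf hker' ⟨b, hbY⟩ ⟨k, hk⟩ _ rfl hbK]
        have hxB : b * k * b⁻¹ * k⁻¹ ∈ B := by
          rw [show b * k * b⁻¹ * k⁻¹ = b * (k * b⁻¹ * k⁻¹) by group]
          exact mul_mem hb ((mem_normalizer_iff.1 (hBn ⟨hKY hk, hkM⟩) _).1 (inv_mem hb))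
        have h1 := htriv _ (mul_mem hbK (inv_mem hk)) hxB
        rwa [show (⟨b * k * b⁻¹ * k⁻¹, mul_mem hbK (inv_mem hk)⟩ : K) =
          ⟨b * k * b⁻¹, hbK⟩ * ⟨k, hk⟩⁻¹ from rfl, map_mul, map_inv, mul_inv_eq_one] at h1
      intro k hk
      have hbK : b * k * b⁻¹ ∈ K := (mem_normalizer_iff.1 (hKn hbY) k).1 hk
      refine hO ⟨b * k * b⁻¹ * k⁻¹, mul_mem hbK (inv_mem hk)⟩ ?_
      rw [show (⟨b * k * b⁻¹ * k⁻¹, mul_mem hbK (inv_mem hk)⟩ : K) =
          ⟨b * k * b⁻¹, hbK⟩ * ⟨k, hk⟩⁻¹ from rfl, map_mul, map_inv,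
        ← act_apply f hKn hf hker' ⟨b, hbY⟩ ⟨k, hk⟩ _ rfl hbK, hβ, MulAut.one_apply, mul_inv_cancel]
    set O := Bender43.op' 2 Y
    have hBO : B ≤ normalizer (O : Set G) := fun b hb => hOY (hB hb).1
    have hHn : Y ≤ normalizer ((O ⊔ B : Subgroup G) : Set G) := by
      refine Coprime.le_normalizer_of_conj_mem fun y hy x hx => ?_
      obtain ⟨k, hk, n, hn, hnY, rfl⟩ := hdec y hy
      have hx' : x ∈ ((O ⊔ B : Subgroup G) : Set G) := hx
      rw [coe_mul_of_right_le_normalizer_left O B hBO] at hx'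
      obtain ⟨o, ho, b, hb, rfl⟩ := hx'
      have hnb : n * b * n⁻¹ ∈ B :=
        (mem_normalizer_iff.1 (hBn ⟨hnY, hNM hn⟩) b).1 hb
      have h1 := hcomm _ hnb k hk
      have e : k * n * (o * b) * (k * n)⁻¹ = (k * n * o * (k * n)⁻¹) *
          ((n * b * n⁻¹ * k * (n * b * n⁻¹)⁻¹ * k⁻¹)⁻¹ * (n * b * n⁻¹)) := by group
      show k * n * (o * b) * (k * n)⁻¹ ∈ O ⊔ B
      rw [e]
      exact mul_mem (le_sup_left (b := B) ((mem_normalizer_iff.1 (hOY hy) o).1 ho))
        (mul_mem (le_sup_left (b := B) (inv_mem h1)) (le_sup_right (a := O) hnb))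
    refine (le_sup_right : B ≤ O ⊔ B).trans (Bender43.le_op' ?_ hHn (coprime_two ?_))
    · exact sup_le (Bender43.op'_le 2 Y) (hB.trans inf_le_left)
    · exact ((odd_op' Y).mul hBodd).of_dvd_nat ⟨_, (Thompson.card_sup_mul_card_inf hBO).symm⟩

end Cfsg.Agent.ThreePrime73
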