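import Cfsg.Agent.ThreePrime72.Join
import Cfsg.Agent.ThreePrime73.Layer
import Cfsg.Agent.ThreePrime74.SzLine

/-!
If `A` centralises `W A` and there is a bad involution, `M` is the normaliser of `A`.
-/

set_option autoImplicit false
set_option linter.style.haveILetI false

open Subgroup

namespace Cfsg.Agent.ThreePrime73

open ThreePrime72 (KSecStmt FunctorStmt XDataStmt FixTransStmt BadLocalStmt MiddleStmt NormEqStmt
  Big th oddOf quo img)

universe u

/-- The centraliser in `M` of a bad involution centralising `A` normalises `A`. -/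
theorem centralizer_inf_le_normalizer {G : Type u} [Group G] [Finite G]
    (hX : XDataStmt.{u}) (hF : FunctorStmt.{u}) (hG : ThreePrime72.Min G) {S : Sylow 2 G} {A M : Subgroup G}
    (hM : Big S A M) {s : G} (hs1 : s ≠ 1) (hs2 : s * s = 1)
    (hAs : A ≤ centralizer ({s} : Set G)) (hsM : ¬ centralizer ({s} : Set G) ≤ M)
    (hAW : A ≤ centralizer ((ThreePrime72.W A : Subgroup G) : Set G)) :
    ∀ x ∈ M, Commute x s → x ∈ normalizer (A : Set G) := by
  intro x hx hxs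
  set X := centralizer ({s} : Set G) with hXdef
  have hxX : x ∈ X := mem_centralizer_singleton_iff.2 hxs.eq
  obtain ⟨K, hKX, hKn, hdec, hAK, L, iL, f, hf, hker, hU⟩ :=
    hX G hG S A M hM X hAs (hG.centralizer_ne_top hs1) hsM
  haveI : Finite L := Finite.of_surjective f hf
  have hO : ∀ y : K, f y = 1 → (y : G) ∈ oddOf X := fun y hy => by
    have h1 : (y : G) ∈ f.ker.map K.subtype := ⟨y, hy, rfl⟩
    rwa [hker] at h1
  have hOW : ∀ o ∈ oddOf X, o ∈ ThreePrime72.W A := fun o ho =>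
    (hM.toSetup.W_inf_centralizer hF hG hs1 hs2 hAs).1 ho
  have hOM : oddOf X ≤ M := fun o ho => hM.W_le (hOW o ho)
  have hsq : ∀ a ∈ A, a * a = 1 := fun a ha => hM.toSetup.sq ha
  obtain ⟨k, hk, n, hn, -, rfl⟩ := hdec x hxX
  refine mul_mem ?_ hn
  have hkM : k ∈ M := by
    have h1 := mul_mem hx (inv_mem (hM.nle hn))
    rwa [mul_inv_cancel_right] at h1
  obtain ⟨-, hgen, -, -⟩ := ThreePrime74.szLineFacts L _ hU
  set U : Subgroup L := (A.subgroupOf K).map f with hUdef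
  have hfix : ThreePrime74.cj U (f ⟨k, hk⟩) = U := by
    by_contra hne
    have hR : U ⊔ ThreePrime74.cj U (f ⟨k, hk⟩) ≤ (M.subgroupOf K).map f := by
      refine sup_le (map_mono fun a ha => le_normalizer.trans hM.nle ha) fun y hy => ?_
      rw [ThreePrime74.mem_cj] at hy
      obtain ⟨a, ha, hay⟩ := hy
      refine ⟨⟨k, hk⟩ * a * ⟨k, hk⟩⁻¹, ?_, ?_⟩
      · exact mul_mem (mul_mem hkM (le_normalizer.trans hM.nle ha)) (inv_mem hkM)
      · rw [map_mul, map_mul, map_inv, hay]; group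
    refine hsM fun y hy => ?_
    obtain ⟨k', hk', n', hn', -, rfl⟩ := hdec y hy
    refine mul_mem ?_ (hM.nle hn')
    obtain ⟨g, hg, hge⟩ := hgen (f ⟨k, hk⟩) (f ⟨k', hk'⟩) hne
    obtain ⟨r, hr, rfl⟩ := hR hg
    have hrM : (r : G) ∈ M := hr
    have h1 : ThreePrime74.cj U (f (r⁻¹ * ⟨k', hk'⟩)) = U := by
      rw [map_mul, ThreePrime74.cj_mul, ← hge, ← ThreePrime74.cj_mul, ← map_mul, inv_mul_cancel,
        map_one, ThreePrime74.cj_one]
    set n1 : K := r⁻¹ * ⟨k', hk'⟩ with hn1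
    obtain ⟨a, ha, ha1⟩ : ∃ a ∈ A, a ≠ 1 := by
      refine A.bot_or_exists_ne_one.resolve_left fun h => ?_
      have := hM.big
      rw [h, card_bot] at this
      omega
    have h2 : f (n1 * ⟨a, hAK ha⟩ * n1⁻¹) ∈ U := by
      rw [← h1, ThreePrime74.mem_cj]
      refine ⟨⟨a, hAK ha⟩, ha, ?_⟩
      rw [← map_inv, ← map_mul, ← map_mul]
      exact congrArg f (by group)
    obtain ⟨a', ha', he⟩ := h2
    have h3 := hO (a'⁻¹ * (n1 * ⟨a, hAK ha⟩ * n1⁻¹)) (by
      rw [map_mul, map_inv, ← he, inv_mul_cancel])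
    have h4 : (n1 : G) * a * (n1 : G)⁻¹ ∈ M := by
      have h5 := mul_mem (le_normalizer.trans hM.nle ha' : (a' : G) ∈ M) (hOM h3)
      simpa using h5
    have h6 := mul_mem hrM (hM.ctl.key hsq hM.nle hM.cle ha ha1 h4)
    simpa [hn1] using h6
  refine LocalEven62.mem_normalizer_of_conj_mem fun a ha => ?_
  have h2 : f (⟨k, hk⟩ * ⟨a, hAK ha⟩ * ⟨k, hk⟩⁻¹) ∈ U := by
    rw [← hfix, ThreePrime74.mem_cj, map_mul, map_mul, map_inv]
    simp only [mul_assoc, inv_mul_cancel_left, inv_mul_cancel, mul_one]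
    exact ⟨⟨a, hAK ha⟩, ha, rfl⟩
  obtain ⟨a', ha', he⟩ := h2
  have ha'A : (a' : G) ∈ A := ha'
  set o : K := a'⁻¹ * (⟨k, hk⟩ * ⟨a, hAK ha⟩ * ⟨k, hk⟩⁻¹) with ho
  have h3 : (o : G) ∈ oddOf X := hO o (by rw [map_mul, map_inv, ← he, inv_mul_cancel])
  have hc : Commute (a' : G) (o : G) :=
    (mem_centralizer_iff.1 (hAW ha'A) _ (hOW _ h3)).symm
  have hval : k * a * k⁻¹ = (a' : G) * (o : G) := by
    rw [ho]; simp [mul_assoc]
  have ho1 : (o : G) = 1 := by
    refine eq_one_of_inv_eq (odd_orderOf (odd_op' X) h3) ?_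
    refine inv_eq_of_mul_eq_one_right ?_
    have e : (k * a * k⁻¹) * (k * a * k⁻¹) = 1 := by
      rw [show k * a * k⁻¹ * (k * a * k⁻¹) = k * (a * a) * k⁻¹ by group, hsq a ha]; group
    rw [hval, show (a' : G) * o * (a' * o) = (a' : G) * ((o : G) * a') * o by group, ← hc.eq] at e
    calc (o : G) * o = ((a' : G) * a') * ((o : G) * o) := by rw [hsq _ ha'A, one_mul]
      _ = (a' : G) * ((a' : G) * o) * o := by group
      _ = 1 := e
  rw [hval, ho1, mul_one]
  exact ha'A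

/-- Piece NormEq. -/
theorem normEq (hk : KSecStmt.{u}) (hF : FunctorStmt.{u}) (hX : XDataStmt.{u})
    (hloc : BadLocalStmt.{u}) (hmid : MiddleStmt.{u}) : NormEqStmt.{u} := by
  intro G _ _ hG S A M hM t ht hAt hAW
  classical
  haveI : Fact (Nat.Prime 2) := ⟨Nat.prime_two⟩
  refine le_antisymm ?_ hM.nle
  have h := hM.toSetup
  have hsq : ∀ a ∈ A, a * a = 1 := fun a ha => h.sq ha
  have hAM : A ≤ M := le_normalizer.trans hM.nle
  obtain ⟨hloc1, -⟩ := hloc G hG S A M hM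
  obtain ⟨htM, hnle, -⟩ := hloc1 t ht hAt
  -- the odd core of `M` is centralised by `A`
  have hOC : oddOf M ≤ centralizer (A : Set G) := by
    have hOW : oddOf M ≤ ThreePrime72.W A := by
      refine PN72.le_of_gen h.elem (by have := h.big; omega)
        (hAM.trans (Bender43.le_normalizer_op' 2 M)) (odd_op' M).not_two_dvd_nat fun b hb hb1 => ?_
      refine le_trans ?_ (ThreePrime72.th_le_W hb hb1)
      refine Bender43.le_op' inf_le_right ?_ (coprime_two (odd_of_le (odd_op' M) inf_le_left))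
      exact fun c hc => Bender85.BadTop.inf_normalizer
        (Bender43.le_normalizer_op' 2 M (hM.cle b hb hb1 hc)) (le_normalizer hc)
    exact fun o ho => mem_centralizer_iff.2 fun a ha =>
      (mem_centralizer_iff.1 (hAW ha) o (hOW ho)).symm
  have hpre : ∀ y : M, quo M y ∈ normalizer (img M A : Set (M ⧸ Cfsg.pPrimeCore 2 M)) →
      (y : G) ∈ normalizer (A : Set G) := by
    intro y hy
    obtain ⟨x, hx, hxy⟩ := h.exists_normalizer_lift' hAM hy
    have h1 : x⁻¹ * y ∈ Cfsg.pPrimeCore 2 M := QuotientGroup.eq.1 hxy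
    have h2 := mul_mem hx (centralizer_le_normalizer _ (hOC (ThreePrime72.mem_oddOf.2 h1)))
    simpa using h2
  obtain ⟨T, hAT, hTN⟩ := h.exists_sylow hAM
  have hK := h.kHyp hG hM.proper T hTN (inf_le_left.trans hAT)
  set Ā := img M A with hĀ
  obtain ⟨hnorm, htop, -, hdata⟩ := hk _ _ Ā hK
  suffices hno : ∀ L, ¬ ThreePrime72.Moved Ā L by
    intro x hx
    refine hpre ⟨x, hx⟩ ?_
    have h1 : closure ((normalizer (Ā : Set (M ⧸ Cfsg.pPrimeCore 2 M)) : Set (M ⧸ Cfsg.pPrimeCore 2 M)) ∪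
        ⋃ L ∈ {L : Subgroup (M ⧸ Cfsg.pPrimeCore 2 M) | ThreePrime72.Moved Ā L},
          (L : Set (M ⧸ Cfsg.pPrimeCore 2 M))) ≤ normalizer (Ā : Set (M ⧸ Cfsg.pPrimeCore 2 M)) := by
      rw [closure_le]
      rintro y (hy | hy)
      · exact hy
      · obtain ⟨L, hL, -⟩ := Set.mem_iUnion₂.1 hy
        exact (hno L hL).elim
    rw [htop] at h1
    exact h1 (mem_top _)
  intro L hL
  obtain ⟨U, e, hUAL, -, he, hcard, hUC, -, hSzU, -, -⟩ := hdata L hL
  set π := QuotientGroup.mk' (center ↥L) with hπ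
  have hD := uData_of hSzU
  have hSyl := ThreePrime82.sylData_of_isoSuzuki hSzU.1
  obtain ⟨u₀, hu₀, hu₀1⟩ : ∃ u ∈ U, u ≠ 1 := by
    refine U.bot_or_exists_ne_one.resolve_left fun hb => ?_
    rw [hb, card_bot] at hcard
    have := Nat.one_lt_two_pow (show e ≠ 0 by omega)
    omega
  have hu₀C : u₀ ∉ centralizer (L : Set (M ⧸ Cfsg.pPrimeCore 2 M)) := fun hc => hu₀1 (by
    have h1 : u₀ ∈ U ⊓ (Ā ⊓ centralizer (L : Set _)) := ⟨hu₀, (hUAL hu₀).1, hc⟩
    rwa [hUC, mem_bot] at h1)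
  -- `t` normalises `L` and acts on it as an element of `U`
  set tb := quo M ⟨t, htM⟩ with htb
  have hcen : ∀ b ∈ Ā, tb * b = b * tb := by
    rintro _ ⟨a, ha, rfl⟩
    rw [htb, ← map_mul, ← map_mul]
    exact congrArg _ (Subtype.ext (mem_centralizer_singleton_iff.1 (hAt ha)).symm)
  have htt : tb * tb = 1 := by
    rw [htb, ← map_mul, show (⟨t, htM⟩ : M) * ⟨t, htM⟩ = 1 from Subtype.ext ht.2.1, map_one]
  have htL : tb ∈ normalizer (L : Set (M ⧸ Cfsg.pPrimeCore 2 M)) := by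
    rw [mem_normalizer_iff_map_conj_eq]
    by_contra hne
    have hL' := Components.component_map_conj tb hL.1
    refine hu₀C (Components.component_le_centralizer hL' hL.1 hne ?_)
    exact ⟨u₀, (hUAL hu₀).2, by
      show tb * u₀ * tb⁻¹ = u₀
      rw [hcen u₀ (hUAL hu₀).1, mul_inv_cancel_right]⟩
  let σ : MulAut ↥L :=
    { toFun := fun x => ⟨tb * x * tb⁻¹, (mem_normalizer_iff.1 htL x).1 x.2⟩
      invFun := fun x => ⟨tb⁻¹ * x * tb, (mem_normalizer_iff''.1 htL x).1 x.2⟩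
      left_inv := fun x => Subtype.ext (by simp [mul_assoc])
      right_inv := fun x => Subtype.ext (by simp [mul_assoc])
      map_mul' := fun x y => Subtype.ext (by simp [mul_assoc]) }
  let α : MulAut (↥L ⧸ center ↥L) :=
    QuotientGroup.congr (center ↥L) (center ↥L) σ
      (Subgroup.characteristic_iff_map_eq.1 inferInstance σ)
  have hαπ : ∀ x, α (π x) = π (σ x) := fun x => rfl
  have hα2 : α ^ 2 = 1 := by
    refine MulEquiv.ext fun y => ?_
    obtain ⟨x, rfl⟩ := QuotientGroup.mk'_surjective (center ↥L) y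
    show α (α (π x)) = π x
    rw [hαπ, hαπ]
    refine congrArg π (Subtype.ext ?_)
    show tb * (tb * x * tb⁻¹) * tb⁻¹ = x
    rw [show tb * (tb * (x : M ⧸ Cfsg.pPrimeCore 2 M) * tb⁻¹) * tb⁻¹ =
      tb * tb * x * (tb * tb)⁻¹ by group, htt]
    group
  obtain ⟨z, hz, hαz⟩ := hD.inner α hα2 fun v hv => by
    obtain ⟨x, hx, rfl⟩ := hv
    rw [hαπ]
    refine congrArg π (Subtype.ext ?_)
    show tb * x * tb⁻¹ = x
    exact mul_inv_eq_iff_eq_mul.2 (hcen _ (hUAL hx).1)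
  obtain ⟨u, hu, rfl⟩ := hz
  obtain ⟨a, ha, hau⟩ := (hUAL hu).1
  replace hau : quo M a = (u : M ⧸ Cfsg.pPrimeCore 2 M) := hau
  have hu2 : (u : M ⧸ Cfsg.pPrimeCore 2 M) * u = 1 := by
    rw [← hau, ← map_mul, show a * a = 1 from Subtype.ext (hsq _ ha), map_one]
  have hAs : A ≤ centralizer ({t * (a : G)} : Set G) := fun b hb =>
    mem_centralizer_singleton_iff.2 (by
      calc b * (t * (a : G)) = (b * t) * a := by group
        _ = (t * b) * a := by rw [mem_centralizer_singleton_iff.1 (hAt hb)]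
        _ = t * (b * a) := by group
        _ = t * ((a : G) * b) := congrArg (t * ·) (PN72.elem_comm h.elem hb ha)
        _ = _ := by group)
  have hsbad : ThreePrime74.BadInv (G ⧸ M) (t * (a : G)) := by
    by_cases ha1 : (a : G) = 1
    · rwa [ha1, mul_one]
    · exact ((hmid G hG S A M hM t ht hAt).2 (fun t' h1 h2 => (hloc1 t' h1 h2).2.2) a ha ha1).1
  obtain ⟨hsM, hsnle, -⟩ := hloc1 _ hsbad hAs
  set s' : M := ⟨t, htM⟩ * a with hs'
  set sb := quo M s' with hsb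
  have hsbu : sb = tb * (u : M ⧸ Cfsg.pPrimeCore 2 M) := by rw [hsb, hs', map_mul, hau]
  have hsN : sb ∈ normalizer (L : Set (M ⧸ Cfsg.pPrimeCore 2 M)) :=
    hsbu ▸ mul_mem htL (le_normalizer u.2)
  have hscent : sb ∈ centralizer (L : Set (M ⧸ Cfsg.pPrimeCore 2 M)) := by
    refine Components.mem_centralizer_of_commutator_mem_centralizer
      (Components.component_commutator_eq_self hL.1) hsN fun l hl => ?_
    have h1 : π (σ (u * ⟨l, hl⟩ * u⁻¹)) = π ⟨l, hl⟩ := by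
      rw [← hαπ, hαz, MulAut.conj_apply, map_mul, map_mul, map_inv]
      have h2 : π u * π u = 1 := by
        rw [← map_mul, show u * u = 1 from Subtype.ext hu2, map_one]
      rw [show π u * (π u * π ⟨l, hl⟩ * (π u)⁻¹) * (π u)⁻¹ =
        π u * π u * π ⟨l, hl⟩ * (π u * π u)⁻¹ by group, h2]
      group
    have h3 : σ (u * ⟨l, hl⟩ * u⁻¹) * (⟨l, hl⟩ : ↥L)⁻¹ ∈ center ↥L := by
      rw [← QuotientGroup.eq_one_iff]
      show π _ = 1
      rw [map_mul, map_inv, h1, mul_inv_cancel]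
    have e : sb * l * sb⁻¹ * l⁻¹ = ((σ (u * ⟨l, hl⟩ * u⁻¹) * (⟨l, hl⟩ : ↥L)⁻¹ : ↥L) :
        M ⧸ Cfsg.pPrimeCore 2 M) := by
      rw [hsbu]
      show _ = tb * ((u : M ⧸ Cfsg.pPrimeCore 2 M) * l * (u : M ⧸ Cfsg.pPrimeCore 2 M)⁻¹) * tb⁻¹ * l⁻¹
      group
    rw [e, mem_centralizer_iff]
    intro w hw
    exact congrArg Subtype.val (mem_center_iff.1 h3 ⟨w, hw⟩)
  have hs1 : t * (a : G) ≠ 1 := hsbad.1
  have hLN : L ≤ normalizer (Ā : Set (M ⧸ Cfsg.pPrimeCore 2 M)) := by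
    intro y hy
    obtain ⟨y0, rfl⟩ := QuotientGroup.mk'_surjective (Cfsg.pPrimeCore 2 M) y
    have hs2 : s' * s' = 1 := Subtype.ext hsbad.2.1
    set v := y0 * s' * y0⁻¹ with hv
    have hv2 : v * v = 1 := by
      rw [hv, show y0 * s' * y0⁻¹ * (y0 * s' * y0⁻¹) = y0 * (s' * s') * y0⁻¹ by group, hs2]
      group
    have hmem : v * s' ∈ Cfsg.pPrimeCore 2 M := (QuotientGroup.eq_one_iff _).1 (by
      show quo M (v * s') = 1
      rw [hv, map_mul, map_mul, map_mul, map_inv]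
      show quo M y0 * sb * (quo M y0)⁻¹ * sb = 1
      rw [mem_centralizer_iff.1 hscent _ hy, mul_inv_cancel_right, hsb, ← map_mul, hs2, map_one])
    obtain ⟨m, hm⟩ := ThreePrime72.exists_conj_of_odd hv2 hs2 ((Nat.coprime_two_right.1
      Thompson.card_pPrimeCore_coprime).of_dvd_nat (orderOf_dvd_natCard _ hmem))
    set x : M := (v * s') ^ m * y0 with hxdef
    have hxs : Commute (x : G) (t * (a : G)) := by
      have h1 : x * s' * x⁻¹ = s' := by
        rw [hxdef, show (v * s') ^ m * y0 * s' * ((v * s') ^ m * y0)⁻¹ =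
          (v * s') ^ m * v * ((v * s') ^ m)⁻¹ by rw [hv]; group]
        exact hm
      exact congrArg Subtype.val (mul_inv_eq_iff_eq_mul.1 h1)
    have hxA := centralizer_inf_le_normalizer hX hF hG hM hs1 hsbad.2.1 hAs hsnle hAW x x.2 hxs
    have hq : quo M x = quo M y0 := by
      rw [hxdef, map_mul, map_pow, show quo M (v * s') = 1 from (QuotientGroup.eq_one_iff _).2 hmem,
        one_pow, one_mul]
    show quo M y0 ∈ _
    rw [← hq]
    exact ThreePrime72.quo_mem_normalizer hxA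
  set N0 : Subgroup (↥L ⧸ center ↥L) := (Ā.subgroupOf L).map π with hN0
  haveI : (Ā.subgroupOf L).Normal := ⟨fun x hx g => mem_subgroupOf.2 (by
    simpa using (mem_normalizer_iff.1 (hLN g.2) _).1 (mem_subgroupOf.1 hx))⟩
  haveI : N0.Normal := (inferInstance : (Ā.subgroupOf L).Normal).map π
    (QuotientGroup.mk'_surjective _)
  haveI : IsSimpleGroup (↥L ⧸ center ↥L) := hL.1.2.2
  rcases (inferInstance : N0.Normal).eq_bot_or_eq_top with hb | hb
  · have h1 : π ⟨u₀, (hUAL hu₀).2⟩ ∈ N0 := ⟨_, (hUAL hu₀).1, rfl⟩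
    rw [hb, mem_bot] at h1
    refine hu₀C (mem_centralizer_iff.2 fun w hw => ?_)
    exact congrArg Subtype.val (mem_center_iff.1 ((QuotientGroup.eq_one_iff _).1 h1) ⟨w, hw⟩)
  · haveI : Finite (↥L ⧸ center ↥L) := inferInstance
    obtain ⟨P⟩ := (inferInstance : Nonempty (Sylow 2 (↥L ⧸ center ↥L)))
    refine hSyl.noncomm P ⟨⟨fun p q => Subtype.ext ?_⟩⟩
    obtain ⟨p', hp', hpe⟩ := (hb ▸ mem_top (p : ↥L ⧸ center ↥L) : (p : ↥L ⧸ center ↥L) ∈ N0)
    obtain ⟨q', hq', hqe⟩ := (hb ▸ mem_top (q : ↥L ⧸ center ↥L) : (q : ↥L ⧸ center ↥L) ∈ N0)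
    show (p : ↥L ⧸ center ↥L) * q = q * p
    rw [← hpe, ← hqe, ← map_mul, ← map_mul]
    exact congrArg π (Subtype.ext (PN72.elem_comm hK.elem hp' hq'))

end Cfsg.Agent.ThreePrime73
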