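import Cfsg.Agent.ThreePrime73.Tools

/-!
In the group of the gap case of the classification of simple groups of order prime to 3: if there is
a bad involution, `A` centralises the odd subgroup `W` generated by the cores of the centralisers of
its involutions.
-/

set_option autoImplicit false
set_option linter.style.haveILetI false
set_option linter.unusedSectionVars false

open Subgroup

namespace Cfsg.Agent.ThreePrime73

variable {G : Type*} [Group G]

/-- An involution of `M` whose centraliser is not in `M`. -/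
def Bad (M : Subgroup G) (t : G) : Prop :=
  t ∈ M ∧ orderOf t = 2 ∧ ¬ centralizer ({t} : Set G) ≤ M

/-- A bad involution centralising `A`. -/
def Cen (M A : Subgroup G) (t : G) : Prop :=
  Bad M t ∧ ∀ a ∈ A, Commute t a

/-- What is used of the local analysis. -/
structure Setup (M A W : Subgroup G) : Prop where
  elem : Cfsg.IsElementaryAbelian 2 A
  card_A : 4 ≤ Nat.card A
  le : A ≤ M
  W_le : W ≤ M
  W_norm : M ≤ normalizer (W : Set G)
  W_odd : Odd (Nat.card W)
  cent : ∀ a ∈ A, a ≠ 1 → centralizer ({a} : Set G) ≤ M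
  conj_in : ∀ a ∈ A, a ≠ 1 → ∀ g : G, g * a * g⁻¹ ∈ M → g ∈ M
  fuse : ∀ {t : G}, Cen M A t → ∀ a ∈ A, a ≠ 1 → ∀ m ∈ M, Commute t (m * a * m⁻¹) →
    ∃ c ∈ M, Commute c t ∧ c * (m * a * m⁻¹) * c⁻¹ ∈ A
  odd : ∀ a ∈ A, a ≠ 1 → ∀ b ∈ A, b ≠ 1 → ∀ g h : G, g⁻¹ * h ∉ M →
    Odd (orderOf ((g * a * g⁻¹) * (h * b * h⁻¹)))
  core : M.normalCore = ⊥
  norm : ∀ {t : G}, Bad M t → ∃ m ∈ M, ∀ a ∈ A, Commute (m * t * m⁻¹) a
  tor : ∀ {t : G}, Cen M A t → ∀ z ∈ A, z ≠ 1 → ∀ z' ∈ A, z' ≠ 1 →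
    ∃ n ∈ M, Commute n t ∧ n * z * n⁻¹ = z'
  fix : ∀ {t : G}, Cen M A t → ∀ g : G, g⁻¹ * t * g ∈ M → ∃ c : G, Commute c t ∧ c⁻¹ * g ∈ M
  coreC : ∀ {t : G}, Cen M A t → Bender43.op' 2 (centralizer ({t} : Set G)) ≤ W
  inter : ∀ {t : G}, Cen M A t → W ⊓ centralizer ({t} : Set G) ≤
    Bender43.op' 2 (centralizer ({t} : Set G))
  prod : ∀ {t : G}, Cen M A t → ∀ Y : Subgroup G, Y ≠ ⊤ → centralizer ({t} : Set G) ≤ Y →
    ∀ y ∈ Y, ∃ m ∈ Y ⊓ M, ∃ c : G, Commute c t ∧ y = m * c
  absorb : ∀ {t : G}, Cen M A t → ∀ Y : Subgroup G, Y ≠ ⊤ → centralizer ({t} : Set G) ≤ Y →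
    ∀ B : Subgroup G, B ≤ Y ⊓ M → Odd (Nat.card B) → Y ⊓ M ≤ normalizer (B : Set G) →
      B ≤ Bender43.op' 2 Y

/-- Every core of `W` is centralised or inverted. -/
def Split (W : Subgroup G) (t : G) : Prop :=
  ∀ r : ℕ, r.Prime → (∀ x ∈ Bender43.op r W, Commute t x) ∨
    ∀ x ∈ Bender43.op r W, t * x * t⁻¹ = x⁻¹

/-- `W` lies in every conjugate of `M` fixed by `t`. -/
def Inside (M W : Subgroup G) (t : G) : Prop :=
  ∀ g : G, g⁻¹ * t * g ∈ M → ∀ w ∈ W, g⁻¹ * w * g ∈ M

theorem orderOf_conj (g x : G) : orderOf (g * x * g⁻¹) = orderOf x :=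
  MulEquiv.orderOf_eq (MulAut.conj g) x

theorem mem_normalizer_centralizer {S : Subgroup G} {g : G} (hg : g ∈ normalizer (S : Set G)) :
    g ∈ normalizer ((centralizer (S : Set G) : Subgroup G) : Set G) := by
  have key : ∀ n ∈ normalizer (S : Set G), ∀ x ∈ centralizer (S : Set G),
      n * x * n⁻¹ ∈ centralizer (S : Set G) := fun n hn x hx =>
    mem_centralizer_iff.2 fun s hs => by
      have h := mem_centralizer_iff.1 hx _ ((mem_normalizer_iff''.1 hn s).1 hs)
      calc s * (n * x * n⁻¹) = n * ((n⁻¹ * s * n) * x) * n⁻¹ := by group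
        _ = n * (x * (n⁻¹ * s * n)) * n⁻¹ := by rw [h]
        _ = _ := by group
  refine Coprime.mem_normalizer_of_le_iff (key g hg) fun x hx => ?_
  have := key g⁻¹ (inv_mem hg) x hx
  rwa [inv_inv] at this

theorem Bad.conj {M : Subgroup G} {t m : G} (ht : Bad M t) (hm : m ∈ M) :
    Bad M (m * t * m⁻¹) := by
  refine ⟨mul_mem (mul_mem hm ht.1) (inv_mem hm), by rw [orderOf_conj, ht.2.1], fun h => ht.2.2 ?_⟩
  intro x hx
  have h1 : m * x * m⁻¹ ∈ centralizer ({m * t * m⁻¹} : Set G) := by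
    refine mem_centralizer_singleton_iff.2 ?_
    calc m * x * m⁻¹ * (m * t * m⁻¹) = m * (x * t) * m⁻¹ := by group
      _ = m * (t * x) * m⁻¹ := by rw [mem_centralizer_singleton_iff.1 hx]
      _ = _ := by group
  have h2 := mul_mem (mul_mem (inv_mem hm) (h h1)) hm
  rwa [show m⁻¹ * (m * x * m⁻¹) * m = x by group] at h2

namespace Setup

variable [Finite G] {M A W : Subgroup G} (hS : Setup M A W)
include hS

theorem sq (a : G) (ha : a ∈ A) : a * a = 1 := by
  have h := hS.elem.2 a ha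
  rwa [pow_two] at h

theorem order_two {a : G} (ha : a ∈ A) (h1 : a ≠ 1) : orderOf a = 2 :=
  PN72.orderOf_two_of_mem hS.elem ha h1

theorem exists_three : ∃ a ∈ A, ∃ b ∈ A, a ≠ 1 ∧ b ≠ 1 ∧ a ≠ b := by
  by_contra! h
  obtain ⟨a, ha⟩ : ∃ a : A, a ≠ 1 := by
    haveI : Nontrivial A := Finite.one_lt_card_iff_nontrivial.1 (by have := hS.card_A; omega)
    exact exists_ne 1
  have hle : A ≤ zpowers (a : G) := by
    intro b hb
    by_cases hb1 : b = 1
    · rw [hb1]; exact one_mem _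
    · rw [← h a a.2 b hb (fun e => ha (Subtype.ext e)) hb1]
      exact mem_zpowers _
  have := card_le_of_le hle
  rw [Nat.card_zpowers, hS.order_two a.2 (fun e => ha (Subtype.ext e))] at this
  have := hS.card_A
  omega

theorem centralizer_ne_top {t : G} (ht : Bad M t) : centralizer ({t} : Set G) ≠ ⊤ := by
  intro h
  haveI : (zpowers t).Normal := by
    refine ⟨fun x hx g => ?_⟩
    obtain ⟨k, rfl⟩ := hx
    have hc : Commute g t := mem_centralizer_singleton_iff.1 (h ▸ mem_top g)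
    refine ⟨k, ?_⟩
    show t ^ k = g * t ^ k * g⁻¹
    rw [(hc.zpow_right k).eq, mul_inv_cancel_right]
  have h1 : zpowers t ≤ M.normalCore := normal_le_normalCore.2 (zpowers_le.2 ht.1)
  rw [hS.core, le_bot_iff, zpowers_eq_bot] at h1
  have := ht.2.1
  rw [h1, orderOf_one] at this
  omega

theorem exists_moved {t : G} (ht : Bad M t) : ∃ g : G, g⁻¹ * t * g ∉ M := by
  by_contra! h
  have hc : t ∈ M.normalCore := fun b => by
    have := h b⁻¹
    rwa [inv_inv] at this
  rw [hS.core, mem_bot] at hc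
  have := ht.2.1
  rw [hc, orderOf_one] at this
  omega

/-- A maximal subgroup over `C(t)` and its core. -/
theorem exists_top {t : G} (ht : Cen M A t) : ∃ Y J : Subgroup G,
    Y ≠ ⊤ ∧ centralizer ({t} : Set G) ≤ Y ∧ J = Bender43.op' 2 Y ∧ J ≤ M ∧
    J ⊓ centralizer ({t} : Set G) ≤ W ∧ W ⊓ Y ≤ J ∧
    ∀ U : Subgroup G, U ≠ ⊥ → U ≤ J → Y ≤ normalizer (U : Set G) →
      normalizer (U : Set G) ≤ Y := by
  obtain ⟨Y, hY, hCY⟩ := (eq_top_or_exists_le_coatom (centralizer ({t} : Set G))).resolve_left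
    (hS.centralizer_ne_top ht.1)
  refine ⟨Y, _, hY.1, hCY, rfl, ?_, ?_, ?_, ?_⟩
  · refine PN72.le_of_gen hS.elem (by have := hS.card_A; omega) ?_ ?_
      (fun b hb hb1 => inf_le_right.trans (hS.cent b hb hb1))
    · intro a ha
      refine Bender43.le_normalizer_op' 2 Y (hCY (mem_centralizer_singleton_iff.2 ?_))
      exact (ht.2 a ha).eq.symm
    · exact (odd_op' Y).not_two_dvd_nat
  · refine (Bender43.le_op' inf_le_right ?_ ?_).trans (hS.coreC ht)
    · exact fun c hc => Bender85.BadTop.inf_normalizer (Bender43.le_normalizer_op' 2 Y (hCY hc))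
        (le_normalizer hc)
    · exact coprime_two (odd_of_le (odd_op' Y) inf_le_left)
  · refine hS.absorb ht Y hY.1 hCY _ (le_inf inf_le_right (inf_le_left.trans hS.W_le))
      (odd_of_le hS.W_odd inf_le_left) ?_
    exact fun m hm => Bender85.BadTop.inf_normalizer (hS.W_norm hm.2) (le_normalizer hm.1)
  · intro U hU hUJ hUY
    have hJM : Bender43.op' 2 Y ≤ M := by
      refine PN72.le_of_gen hS.elem (by have := hS.card_A; omega) ?_ ?_
        (fun b hb hb1 => inf_le_right.trans (hS.cent b hb hb1))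
      · intro a ha
        refine Bender43.le_normalizer_op' 2 Y (hCY (mem_centralizer_singleton_iff.2 ?_))
        exact (ht.2 a ha).eq.symm
      · exact (odd_op' Y).not_two_dvd_nat
    by_contra hle
    have htop : normalizer (U : Set G) = ⊤ :=
      hY.2 _ (lt_of_le_of_ne hUY fun e => hle e.ge)
    haveI := normalizer_eq_top_iff.1 htop
    have h1 : U ≤ M.normalCore := normal_le_normalCore.2 (hUJ.trans hJM)
    rw [hS.core, le_bot_iff] at h1
    exact hU h1

/-- Each bad involution either splits the cores of `W` or has `W` inside its fixed points. -/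
theorem split_or_inside {t : G} (ht : Cen M A t) : Split W t ∨ Inside M W t := by
  obtain ⟨Y, J, hY, hCY, hJdef, hJM, hJC, hWY, hN⟩ := hS.exists_top ht
  have hYJ : Y ≤ normalizer (J : Set G) := hJdef ▸ Bender43.le_normalizer_op' 2 Y
  have hJY : J ≤ Y := hJdef ▸ Bender43.op'_le 2 Y
  have hJodd : Odd (Nat.card J) := hJdef ▸ odd_op' Y
  have htC : ∀ {x : G}, Commute t x → x ∈ Y := fun h =>
    hCY (mem_centralizer_singleton_iff.2 h.eq.symm)
  have htY : t ∈ Y := htC (Commute.refl t)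
  have hYU : ∀ r : ℕ, Y ≤ normalizer ((Bender43.op r J : Subgroup G) : Set G) := fun r y hy =>
    mem_normalizer_op (hYJ hy)
  by_cases hJt : J ≤ centralizer ({t} : Set G)
  · -- the core is fixed by `t`
    left
    intro r hr
    haveI := Fact.mk hr
    have hJW : J ≤ W := fun j hj => hJC ⟨hj, hJt hj⟩
    have hPn : M ≤ normalizer ((Bender43.op r W : Subgroup G) : Set G) := fun m hm =>
      mem_normalizer_op (hS.W_norm hm)
    have hPY : Bender43.op r W ⊓ Y ≤ Bender43.op r J := by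
      refine Bender43.le_op ((inf_le_inf_right Y (Bender43.op_le r W)).trans hWY) ?_
        ((Bender43.op_isPGroup r W).to_le inf_le_left)
      exact fun j hj => Bender85.BadTop.inf_normalizer (hPn (hJM hj)) (le_normalizer (hJY hj))
    by_cases hU : Bender43.op r J = ⊥
    · refine Or.inr (inverts_of_fixed_bot ht.1.2.1 (hPn ht.1.1) fun x hx hxt => ?_)
      have : x ∈ Bender43.op r J := hPY ⟨hx, htC hxt⟩
      rwa [hU, mem_bot] at this
    · refine Or.inl fun x hx => ?_
      have h := le_of_norm_le (Bender43.op_isPGroup r W) (Bender43.op_isPGroup r J)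
        (((Bender43.op_le r J).trans hJM).trans hPn)
        (hN _ hU (Bender43.op_le r J) (hYU r)) hPY hx
      exact (mem_centralizer_singleton_iff.1 (hJt (Bender43.op_le r J h))).symm
  · -- the core is moved by `t`
    right
    set H := W ⊔ J with hH
    have hHM : H ≤ M := sup_le hS.W_le hJM
    have hJW : J ≤ normalizer (W : Set G) := hJM.trans hS.W_norm
    have hHodd : Odd (Nat.card H) := by
      have h := Thompson.card_sup_mul_card_inf hJW
      exact (hS.W_odd.mul hJodd).of_dvd_nat ⟨_, h.symm⟩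
    have hmH : ∀ x ∈ H, ∃ w ∈ W, ∃ j ∈ J, x = w * j := by
      intro x hx
      have hx' : x ∈ ((W ⊔ J : Subgroup G) : Set G) := hx
      rw [coe_mul_of_right_le_normalizer_left W J hJW] at hx'
      obtain ⟨w, hw, j, hj, rfl⟩ := hx'
      exact ⟨w, hw, j, hj, rfl⟩
    have hHY : H ⊓ Y ≤ J := by
      rintro x ⟨hx, hxY⟩
      obtain ⟨w, hw, j, hj, rfl⟩ := hmH x hx
      refine mul_mem (hWY ⟨hw, ?_⟩) hj
      have h := Y.mul_mem hxY (Y.inv_mem (hJY hj))
      rwa [mul_inv_cancel_right] at h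
    have hDH : Y ⊓ M ≤ normalizer (H : Set G) := by
      refine Coprime.le_normalizer_of_conj_mem fun d hd x hx => ?_
      obtain ⟨w, hw, j, hj, rfl⟩ := hmH x hx
      rw [show d * (w * j) * d⁻¹ = (d * w * d⁻¹) * (d * j * d⁻¹) by group]
      exact mul_mem_sup ((mem_normalizer_iff.1 (hS.W_norm hd.2) w).1 hw)
        ((mem_normalizer_iff.1 (hYJ hd.1) j).1 hj)
    have hJH : J ≤ H := le_sup_right
    have hHn : ∀ q : ℕ, Y ⊓ M ≤ normalizer ((Bender43.op q H : Subgroup G) : Set G) := fun q d hd =>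
      mem_normalizer_op (hDH hd)
    have hPY : ∀ q : ℕ, Bender43.op q H ⊓ Y ≤ Bender43.op q J := fun q => by
      refine Bender43.le_op ((inf_le_inf_right Y (Bender43.op_le q H)).trans hHY) ?_
        ((Bender43.op_isPGroup q H).to_le inf_le_left)
      exact fun j hj => Bender85.BadTop.inf_normalizer (hHn q ⟨hJY hj, hJM hj⟩)
        (le_normalizer (hJY hj))
    obtain ⟨r, hr, u₀, hu₀, hut⟩ : ∃ r : ℕ, r.Prime ∧ ∃ u ∈ Bender43.op r J, ¬ Commute t u := by
      by_contra! h
      exact hJt fun j hj => mem_centralizer_singleton_iff.2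
        (commute_of_cores hJodd ht.1.2.1 (hYJ htY) h j hj).eq.symm
    haveI := Fact.mk hr
    set U := Bender43.op r J with hUdef
    have hUne : U ≠ ⊥ := by
      intro h
      rw [h, mem_bot] at hu₀
      exact hut (hu₀ ▸ Commute.one_right t)
    have hle : ∀ q : ℕ, q.Prime → Bender43.op q H ≤ Bender43.op q J := by
      intro q hq
      haveI := Fact.mk hq
      by_cases hqJ : Bender43.op q J = ⊥
      · intro x hx
        set Q := Bender43.op q H
        have hinv : ∀ z ∈ Q, t * z * t⁻¹ = z⁻¹ :=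
          inverts_of_fixed_bot ht.1.2.1 (hHn q ⟨htY, ht.1.1⟩) fun z hz hzt => by
            have := hPY q ⟨hz, htC hzt⟩
            rwa [hqJ, mem_bot] at this
        set S0 : Set G := {s | ∃ u ∈ U, s = u⁻¹ * (t * u * t⁻¹)}
        set S1 : Set G := {s | ∃ d ∈ Y ⊓ M, ∃ e ∈ S0, s = d * e * d⁻¹}
        have hS0U : S0 ⊆ U := by
          rintro s ⟨u, hu, rfl⟩
          exact mul_mem (inv_mem hu) ((mem_normalizer_iff.1 (hYU r htY) u).1 hu)
        have hBU : closure S1 ≤ U := by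
          rw [closure_le]
          rintro s ⟨d, hd, e, he, rfl⟩
          exact (mem_normalizer_iff.1 (hYU r hd.1) e).1 (hS0U he)
        have hBne : closure S1 ≠ ⊥ := by
          intro h
          have hm : u₀⁻¹ * (t * u₀ * t⁻¹) ∈ closure S1 :=
            subset_closure ⟨1, one_mem _, _, ⟨u₀, hu₀, rfl⟩, by group⟩
          rw [h, mem_bot] at hm
          exact hut (commute_iff_conj.2 (inv_mul_eq_one.1 hm).symm)
        have hS0c : ∀ c : G, Commute c t → ∀ e ∈ S0, c * e * c⁻¹ ∈ S0 := by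
          rintro c hc e ⟨u, hu, rfl⟩
          refine ⟨c * u * c⁻¹, (mem_normalizer_iff.1 (hYU r (htC hc.symm)) u).1 hu, ?_⟩
          have h1 : c * t = t * c := hc.eq
          calc c * (u⁻¹ * (t * u * t⁻¹)) * c⁻¹
              = (c * u * c⁻¹)⁻¹ * ((c * t) * u * (c * t)⁻¹) := by group
            _ = (c * u * c⁻¹)⁻¹ * ((t * c) * u * (t * c)⁻¹) := by rw [h1]
            _ = _ := by group
        have hBY : Y ≤ normalizer ((closure S1 : Subgroup G) : Set G) := by
          refine Bender43.le_normalizer_closure ?_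
          rintro y hy s ⟨d, hd, e, he, rfl⟩
          obtain ⟨m, hm, c, hc, hym⟩ := hS.prod ht Y hY hCY (y * d) (mul_mem hy hd.1)
          refine ⟨m, hm, c * e * c⁻¹, hS0c c hc e he, ?_⟩
          calc y * (d * e * d⁻¹) * y⁻¹ = (y * d) * e * (y * d)⁻¹ := by group
            _ = (m * c) * e * (m * c)⁻¹ := by rw [hym]
            _ = _ := by group
        have hJQ : J ≤ normalizer (Q : Set G) := hJH.trans (Bender43.le_normalizer_op q H)
        have hQB : ∀ z ∈ Q, ∀ s ∈ S1, Commute s z := by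
          rintro z hz s ⟨d, hd, e, ⟨u, hu, rfl⟩, rfl⟩
          have hz' : d⁻¹ * z * d ∈ Q := (mem_normalizer_iff''.1 (hHn q hd) z).1 hz
          have huz : u * (d⁻¹ * z * d) * u⁻¹ ∈ Q :=
            (mem_normalizer_iff.1 (hJQ (Bender43.op_le r J hu)) _).1 hz'
          have h1 := hinv _ huz
          have h2 := hinv _ hz'
          set z1 := d⁻¹ * z * d with hz1
          have h3 : (t * u * t⁻¹) * z1⁻¹ * (t * u * t⁻¹)⁻¹ = u * z1⁻¹ * u⁻¹ := by
            calc (t * u * t⁻¹) * z1⁻¹ * (t * u * t⁻¹)⁻¹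
                = (t * u * t⁻¹) * (t * z1 * t⁻¹) * (t * u * t⁻¹)⁻¹ := by rw [h2]
              _ = t * (u * z1 * u⁻¹) * t⁻¹ := by group
              _ = _ := by rw [h1]; group
          have h4 : (u⁻¹ * (t * u * t⁻¹)) * z1⁻¹ * (u⁻¹ * (t * u * t⁻¹))⁻¹ = z1⁻¹ := by
            calc (u⁻¹ * (t * u * t⁻¹)) * z1⁻¹ * (u⁻¹ * (t * u * t⁻¹))⁻¹
                = u⁻¹ * ((t * u * t⁻¹) * z1⁻¹ * (t * u * t⁻¹)⁻¹) * u := by group
              _ = _ := by rw [h3]; group
          have h5 := (Commute.inv_right_iff.1 (commute_iff_conj.2 h4)).eq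
          show d * (u⁻¹ * (t * u * t⁻¹)) * d⁻¹ * z = z * (d * (u⁻¹ * (t * u * t⁻¹)) * d⁻¹)
          calc d * (u⁻¹ * (t * u * t⁻¹)) * d⁻¹ * z
              = d * ((u⁻¹ * (t * u * t⁻¹)) * z1) * d⁻¹ := by rw [hz1]; group
            _ = d * (z1 * (u⁻¹ * (t * u * t⁻¹))) * d⁻¹ := by rw [h5]
            _ = _ := by rw [hz1]; group
        have hxN : x ∈ normalizer ((closure S1 : Subgroup G) : Set G) := by
          refine centralizer_le_normalizer _ ?_
          rw [centralizer_closure, mem_centralizer_iff]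
          exact fun s hs => (hQB x hx s hs).eq
        exact hPY q ⟨hx, hN _ hBne (hBU.trans (Bender43.op_le r J)) hBY hxN⟩
      · refine le_of_norm_le (Bender43.op_isPGroup q H) (Bender43.op_isPGroup q J) ?_
          (hN _ hqJ (Bender43.op_le q J) (hYU q)) (hPY q)
        exact (Bender43.op_le q J).trans (hJH.trans (Bender43.le_normalizer_op q H))
    have hH2 : H ≤ Y := by
      have hr2 : r ≠ 2 := by
        intro h2
        obtain ⟨n, hn⟩ := IsPGroup.iff_card.1 (Bender43.op_isPGroup r J)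
        have h1 : Odd (Nat.card U) := odd_of_le hJodd (Bender43.op_le r J)
        rw [hUdef, hn] at h1
        rcases Nat.eq_zero_or_pos n with h0 | h0
        · rw [h0, pow_zero] at hn
          exact hUne (eq_bot_of_card_eq _ hn)
        · subst h2
          exact (Nat.not_odd_iff_even.2 (Nat.even_pow.2 ⟨even_two, h0.ne'⟩)) h1
      by_cases hone : ∀ q : ℕ, q.Prime → q ≠ r → Bender43.op q J = ⊥
      · obtain ⟨R, hR, hUR⟩ := Bender85.BadTop.exists_max_ge (Bender43.op_isPGroup r J)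
          (Bender43.op_le r J)
        set Z := Cfsg.centerThompsonAOf R with hZ
        have hZne : Z ≠ ⊥ :=
          PLocalB.centerThompsonAOf_ne_bot hR.pgroup fun h => hUne (le_bot_iff.1 (h ▸ hUR))
        have hZJ : Z ≤ J := (PLocalB.centerThompsonAOf_le R).trans hR.le
        have hJZ : J ≤ normalizer (Z : Set G) := by
          obtain ⟨P, hP⟩ := hR.exists_sylow
          have := Bender43.le_normalizer_centerThompson hJodd hr2 hone P
          rwa [hP] at this
        have hYZ : Y ≤ normalizer (Z : Set G) := by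
          intro y hy
          obtain ⟨l, hl, he⟩ := hR.exists_conj (max_map_conj hR (hYJ hy))
          have h1 : l⁻¹ * y ∈ normalizer (R : Set G) := by
            rw [mem_normalizer_iff_map_conj_eq]
            have h2 := congrArg (Subgroup.map (MulAut.conj l⁻¹).toMonoidHom) he
            rw [Subgroup.map_map, Subgroup.map_map] at h2
            convert h2 using 2
            · ext x; simp [mul_assoc]
            · conv_lhs => rw [← Subgroup.map_id R]
              congr 1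
              ext x
              simp [mul_assoc]
          have h3 := mul_mem (hJZ hl) (Bender85.mem_normalizer_zj h1)
          rwa [mul_inv_cancel_left] at h3
        have hNZ : normalizer (Z : Set G) ≤ Y := hN Z hZne hZJ hYZ
        obtain ⟨T, hT, hRT⟩ := Bender85.BadTop.exists_max_ge hR.pgroup (hR.le.trans hJH)
        have hTR : T = R := by
          by_contra hne
          have hlt : R.subgroupOf T ≠ ⊤ := fun h => hne (le_antisymm (subgroupOf_eq_top.1 h) hRT)
          obtain ⟨x, hxN, hxR⟩ := SetLike.exists_of_lt (PGroup.lt_normalizer hT.pgroup hlt)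
          have hxn : (x : G) ∈ normalizer (R : Set G) := by
            refine Coprime.mem_normalizer_of_le_iff (fun y hy => ?_) (fun y hy => ?_)
            · have := (mem_normalizer_iff.1 hxN ⟨y, hRT hy⟩).1 (mem_subgroupOf.2 hy)
              simpa [mem_subgroupOf] using this
            · have := (mem_normalizer_iff''.1 hxN ⟨y, hRT hy⟩).1 (mem_subgroupOf.2 hy)
              simpa [mem_subgroupOf] using this
          have hxJ : (x : G) ∈ J :=
            hHY ⟨hT.le x.2, hNZ (Bender85.mem_normalizer_zj hxn)⟩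
          have := hR.eq_of_le (hT.pgroup.to_le inf_le_left) (le_inf hRT hR.le)
            (inf_le_right : T ⊓ J ≤ J)
          exact hxR (mem_subgroupOf.2 (this ▸ (⟨x.2, hxJ⟩ : (x : G) ∈ T ⊓ J)))
        subst hTR
        obtain ⟨P, hP⟩ := hT.exists_sylow
        have hone' : ∀ q : ℕ, q.Prime → q ≠ r → Bender43.op q H = ⊥ := fun q hq hqr =>
          le_bot_iff.1 ((hle q hq).trans (hone q hq hqr).le)
        have := Bender43.le_normalizer_centerThompson hHodd hr2 hone' P
        rw [hP] at this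
        exact this.trans hNZ
      · push Not at hone
        obtain ⟨s, hs, hsr, hsJ⟩ := hone
        haveI := Fact.mk hs
        set O := Bender43.op s J with hO
        set V := (center O).map O.subtype with hV
        have hVne : V ≠ ⊥ := by
          rw [hV, Ne, map_eq_bot_iff_of_injective _ O.subtype_injective]
          haveI : Nontrivial O := (nontrivial_iff_ne_bot O).2 hsJ
          exact (IsPGroup.bot_lt_center (Bender43.op_isPGroup s J)).ne'
        have hVO : V ≤ O := map_subtype_le _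
        have hYV : Y ≤ normalizer (V : Set G) :=
          (hYU s).trans (OddLocal43.normalizes_map_characteristic _)
        have hVc : ∀ v ∈ V, ∀ x ∈ O, Commute v x := by
          rintro v ⟨v', hv', rfl⟩ x hx
          exact (congrArg Subtype.val (mem_center_iff.1 hv' ⟨x, hx⟩)).symm
        have hVH : V ≤ Bender43.op s H := by
          intro v hv
          obtain ⟨j, hj⟩ := (Bender43.op_isPGroup s J) ⟨v, hVO hv⟩
          obtain ⟨k, -, hk⟩ := (Nat.dvd_prime_pow hs).1
            (orderOf_dvd_of_pow_eq_one (congrArg Subtype.val hj : v ^ s ^ j = 1))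
          refine mem_op_of_centralizes hHodd (hJH (Bender43.op_le s J (hVO hv))) hk
            fun q hq x hx => ?_
          haveI := Fact.mk hq
          by_cases hqs : q = s
          · subst hqs; exact hVc v hv x (hle q hq hx)
          · exact Bender43.op_commute (Ne.symm hqs) (hVO hv) (hle q hq hx)
        set K := H ⊓ centralizer ((Bender43.op s H : Subgroup G) : Set G) with hK
        have hKJ : K ≤ J := by
          intro x hx
          refine hHY ⟨hx.1, hN V hVne (hVO.trans (Bender43.op_le s J)) hYV ?_⟩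
          exact centralizer_le_normalizer _ (centralizer_le hVH hx.2)
        have hUK : U ≤ K := fun x hx => ⟨hJH (Bender43.op_le r J hx),
          mem_centralizer_iff.2 fun y hy => (Bender43.op_commute hsr (hle s hs hy) hx).eq⟩
        have hHK : H ≤ normalizer (K : Set G) := fun h hh =>
          Bender85.BadTop.inf_normalizer (le_normalizer hh)
            (mem_normalizer_centralizer (Bender43.le_normalizer_op s H hh))
        have hUH : U ≤ Bender43.op r H :=
          (Bender43.le_op hUK (hKJ.trans (Bender43.le_normalizer_op r J))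
            (Bender43.op_isPGroup r J)).trans (Bender43.op_mono_of_normal inf_le_left hHK)
        have hUe : U = Bender43.op r H := le_antisymm hUH (hle r hr)
        refine le_trans ?_ (hN U hUne (Bender43.op_le r J) (hYU r))
        rw [hUe]
        exact Bender43.le_normalizer_op r H
    intro g hg w hw
    obtain ⟨c, hc, hm⟩ := hS.fix ht g hg
    have hwJ : w ∈ J := hHY ⟨le_sup_left (b := J) hw, hH2 (le_sup_left (b := J) hw)⟩
    have h1 : c⁻¹ * w * c ∈ M := hJM ((mem_normalizer_iff''.1 (hYJ (htC hc.symm)) w).1 hwJ)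
    have := mul_mem (mul_mem (inv_mem hm) h1) hm
    rwa [show (c⁻¹ * g)⁻¹ * (c⁻¹ * w * c) * (c⁻¹ * g) = g⁻¹ * w * g by group] at this

/-- The middle involution between a point fixed by `t` and a moved one. -/
theorem exists_middle {t g z : G} (ht : Bad M t) (hg : g⁻¹ * t * g ∉ M) (hz : z ∈ A) (hz1 : z ≠ 1) :
    ∃ h : G, h⁻¹ * t * h ∈ M ∧ Bad M (h⁻¹ * t * h * z) ∧
      (h⁻¹ * g)⁻¹ * (h⁻¹ * t * h * z) * (h⁻¹ * g) ∈ M := by
  set x := g * z * g⁻¹ with hx
  set y := t * x * t⁻¹ with hy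
  set p := x * y with hp
  have hxx : x * x = 1 := by
    rw [hx, show g * z * g⁻¹ * (g * z * g⁻¹) = g * (z * z) * g⁻¹ by group, hS.sq z hz]; group
  have hxi : x⁻¹ = x := inv_eq_of_mul_eq_one_right hxx
  have hti := inv_self ht.2.1
  have hodd : Odd (orderOf p) := by
    have := hS.odd z hz hz1 z hz hz1 g (t * g) (by rwa [← mul_assoc])
    rwa [show g * z * g⁻¹ * (t * g * z * (t * g)⁻¹) = p by rw [hp, hy, hx]; group] at this
  obtain ⟨e, he⟩ := odd_pow_eq hodd
  have hyy : y * y = 1 := by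
    rw [hy, show t * x * t⁻¹ * (t * x * t⁻¹) = t * (x * x) * t⁻¹ by group, hxx]; group
  have hpx : x * p * x⁻¹ = p⁻¹ := by
    have hyi : y⁻¹ = y := inv_eq_of_mul_eq_one_right hyy
    rw [hp, mul_inv_rev x y, hyi, hxi, ← mul_assoc x x y, hxx, one_mul]
  have hxk : ∀ n : ℕ, x * p ^ n * x⁻¹ = (p ^ n)⁻¹ := fun n => by
    rw [← conj_pow, hpx, inv_pow]
  set u := x * p ^ e with hu
  set h := (p ^ (e * e))⁻¹ * g with hh
  have hconj : h * z * h⁻¹ = u := by
    have h1 : h * z * h⁻¹ = (p ^ (e * e))⁻¹ * x * p ^ (e * e) := by rw [hh, hx]; group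
    have h2 : (p ^ (e * e))⁻¹ = x * p ^ (e * e) * x⁻¹ := (hxk _).symm
    rw [h1, h2, inv_mul_cancel_right, hu, mul_assoc, ← pow_add, ← two_mul,
      ← mul_assoc 2 e e, pow_mul, he]
  have htp : t * p * t⁻¹ = p⁻¹ := by
    have h3 : t * y * t⁻¹ = x := by rw [hy]; exact conj_conj ht.2.1 x
    rw [hp, show t * (x * y) * t⁻¹ = (t * x * t⁻¹) * (t * y * t⁻¹) by group, ← hy, h3, mul_inv_rev x y,
      hxi, inv_eq_of_mul_eq_one_right hyy]
  have hyp : y = x * p := by rw [hp, ← mul_assoc, hxx, one_mul]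
  have hpee : p * (p ^ e)⁻¹ = p ^ e :=
    mul_inv_eq_iff_eq_mul.2 (by rw [← pow_add, ← two_mul, he])
  have htu : t * u * t⁻¹ = u := by
    calc t * u * t⁻¹ = (t * x * t⁻¹) * (t * p * t⁻¹) ^ e := by rw [hu, conj_pow]; group
      _ = x * (p * (p ^ e)⁻¹) := by rw [htp, inv_pow, ← hy, hyp, mul_assoc]
      _ = u := by rw [hpee]
  have hux : u * x * u⁻¹ = y := by
    have h4 : u⁻¹ = (p ^ e)⁻¹ * x := by rw [hu, mul_inv_rev x (p ^ e), hxi]
    calc u * x * u⁻¹ = x * p ^ e * (x * (p ^ e)⁻¹ * x⁻¹) := by rw [h4, hxi, hu]; group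
      _ = x * (p ^ e * p ^ e) := by rw [← inv_pow, ← conj_pow]; rw [show x * p⁻¹ * x⁻¹ = p by
            rw [← inv_inv (x * p⁻¹ * x⁻¹), conj_inv, inv_inv, hpx, inv_inv]]; group
      _ = y := by rw [← pow_add, ← two_mul, he, hyp]
  have htz : Commute (h⁻¹ * t * h) z := by
    refine commute_iff_conj.2 ?_
    calc h⁻¹ * t * h * z * (h⁻¹ * t * h)⁻¹ = h⁻¹ * (t * (h * z * h⁻¹) * t⁻¹) * h := by group
      _ = z := by rw [hconj, htu, ← hconj]; group
  have hth : h⁻¹ * t * h ∈ M := hS.cent z hz hz1 (mem_centralizer_singleton_iff.2 htz.eq)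
  set v := t * u with hv
  have hvx : Commute v x := by
    refine commute_iff_conj.2 ?_
    calc v * x * v⁻¹ = t * (u * x * u⁻¹) * t⁻¹ := by rw [hv]; group
      _ = x := by rw [hux, hy, conj_conj ht.2.1]
  have hvh : h⁻¹ * t * h * z = h⁻¹ * v * h := by rw [hv, ← hconj]; group
  have hvg : g⁻¹ * v * g ∈ M := by
    refine hS.cent z hz hz1 (mem_centralizer_singleton_iff.2 ?_)
    calc g⁻¹ * v * g * z = g⁻¹ * (v * x) * g := by rw [hx]; group
      _ = g⁻¹ * (x * v) * g := by rw [hvx.eq]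
      _ = _ := by rw [hx]; group
  have hgM : h⁻¹ * g ∉ M := by
    intro hm
    refine hg ?_
    have := mul_mem (mul_mem (inv_mem hm) hth) hm
    rwa [show (h⁻¹ * g)⁻¹ * (h⁻¹ * t * h) * (h⁻¹ * g) = g⁻¹ * t * g by group] at this
  refine ⟨h, hth, ⟨mul_mem hth (hS.le hz), ?_, ?_⟩, ?_⟩
  · refine orderOf_eq_prime ?_ ?_
    · rw [htz.mul_pow, pow_two z, hS.sq z hz, mul_one,
        show h⁻¹ * t * h = h⁻¹ * t * (h⁻¹)⁻¹ by rw [inv_inv], conj_pow, ← ht.2.1,
        pow_orderOf_eq_one]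
      group
    · intro h1
      have htu' : t = u := by
        have e1 : h⁻¹ * t * h = z := by
          rw [← hti] at h1 ⊢
          exact (mul_eq_one_iff_eq_inv.1 h1).trans (inv_eq_of_mul_eq_one_right (hS.sq z hz))
        rw [← hconj, ← e1]; group
      have hhM : h ∈ M := hS.conj_in z hz hz1 h (by rw [hconj, ← htu']; exact ht.1)
      refine ht.2.2 fun c hc => ?_
      rw [htu', ← hconj] at hc
      have h5 : h⁻¹ * c * h ∈ centralizer ({z} : Set G) := by
        refine mem_centralizer_singleton_iff.2 ?_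
        calc h⁻¹ * c * h * z = h⁻¹ * (c * (h * z * h⁻¹)) * h := by group
          _ = h⁻¹ * ((h * z * h⁻¹) * c) * h := by rw [mem_centralizer_singleton_iff.1 hc]
          _ = _ := by group
      have := mul_mem (mul_mem hhM (hS.cent z hz hz1 h5)) (inv_mem hhM)
      rwa [show h * (h⁻¹ * c * h) * h⁻¹ = c by group] at this
  · intro hle
    have hx' : (h⁻¹ * g) * z * (h⁻¹ * g)⁻¹ ∈ M := by
      refine hle (mem_centralizer_singleton_iff.2 ?_)
      rw [hvh, show (h⁻¹ * g) * z * (h⁻¹ * g)⁻¹ = h⁻¹ * x * h by rw [hx]; group]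
      calc h⁻¹ * x * h * (h⁻¹ * v * h) = h⁻¹ * (x * v) * h := by group
        _ = h⁻¹ * (v * x) * h := by rw [hvx.eq]
        _ = _ := by group
    exact hgM (hS.conj_in z hz hz1 _ hx')
  · rw [hvh]
    rwa [show (h⁻¹ * g)⁻¹ * (h⁻¹ * v * h) * (h⁻¹ * g) = g⁻¹ * v * g by group]

theorem inside_conj {t n : G} (hn : n ∈ M) (h : Inside M W t) : Inside M W (n * t * n⁻¹) := by
  intro g hg w hw
  have h1 := h (n⁻¹ * g)
    (by rwa [show (n⁻¹ * g)⁻¹ * t * (n⁻¹ * g) = g⁻¹ * (n * t * n⁻¹) * g by group])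
    (n⁻¹ * w * n) ((mem_normalizer_iff''.1 (hS.W_norm hn) w).1 hw)
  rwa [show (n⁻¹ * g)⁻¹ * (n⁻¹ * w * n) * (n⁻¹ * g) = g⁻¹ * w * g by group] at h1

theorem exists_split {t : G} (ht : Cen M A t) : ∃ t₀ : G, Cen M A t₀ ∧ Split W t₀ := by
  by_contra! hns
  have hin : ∀ {s : G}, Bad M s → Inside M W s := fun {s} hs => by
    obtain ⟨m, hm, hc⟩ := hS.norm hs
    have hC : Cen M A (m * s * m⁻¹) := ⟨hs.conj hm, hc⟩
    have h1 := hS.inside_conj (inv_mem hm) ((hS.split_or_inside hC).resolve_left (hns _ hC))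
    rwa [show m⁻¹ * (m * s * m⁻¹) * m⁻¹⁻¹ = s by group] at h1
  obtain ⟨a, ha, -, -, ha1, -, -⟩ := hS.exists_three
  refine hns t ht fun r _ => Or.inr fun x hx => ?_
  refine inverts_of_fixed_bot ht.1.2.1 (hS.W_norm ht.1.1) (fun d hd hdt => ?_) x
    (Bender43.op_le r W hx)
  have hdC : d ∈ Bender43.op' 2 (centralizer ({t} : Set G)) :=
    hS.inter ht ⟨hd, mem_centralizer_singleton_iff.2 hdt.eq.symm⟩
  have hc : d ∈ M.normalCore := by
    intro b
    set g := b⁻¹ with hgb
    suffices g⁻¹ * d * g ∈ M by rwa [hgb, inv_inv] at this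
    by_cases hg : g⁻¹ * t * g ∈ M
    · exact hin ht.1 g hg d hd
    · obtain ⟨h, hh, hbad, hmem⟩ := hS.exists_middle ht.1 hg ha ha1
      obtain ⟨c, hc, hm⟩ := hS.fix ht h hh
      have h1 : c⁻¹ * d * c ∈ W := hS.coreC ht
        ((mem_normalizer_iff''.1 (Bender43.le_normalizer_op' 2 _
          (mem_centralizer_singleton_iff.2 hc.eq)) d).1 hdC)
      have h2 := (mem_normalizer_iff''.1 (hS.W_norm hm) _).1 h1
      rw [show (c⁻¹ * h)⁻¹ * (c⁻¹ * d * c) * (c⁻¹ * h) = h⁻¹ * d * h by group] at h2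
      have h3 := hin hbad (h⁻¹ * g) hmem _ h2
      rwa [show (h⁻¹ * g)⁻¹ * (h⁻¹ * d * h) * (h⁻¹ * g) = g⁻¹ * d * g by group] at h3
  rwa [hS.core, mem_bot] at hc

theorem bad_mul {t : G} (ht : Cen M A t) : ∀ z ∈ A, z ≠ 1 → Bad M (t * z) := by
  obtain ⟨a, ha, -, -, ha1, -, -⟩ := hS.exists_three
  obtain ⟨g, hg⟩ := hS.exists_moved ht.1
  obtain ⟨h, hh, hbad, -⟩ := hS.exists_middle ht.1 hg ha ha1
  obtain ⟨c, hc, hm⟩ := hS.fix ht h hh
  set m := c⁻¹ * h with hmdef
  have htm : h⁻¹ * t * h = m⁻¹ * t * m := by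
    calc h⁻¹ * t * h = m⁻¹ * (c⁻¹ * (t * c)) * m := by rw [hmdef]; group
      _ = _ := by rw [← hc.eq, inv_mul_cancel_left]
  have hb1 : Bad M (t * (m * a * m⁻¹)) := by
    have := hbad.conj hm
    rwa [htm, show m * (m⁻¹ * t * m * a) * m⁻¹ = t * (m * a * m⁻¹) by group] at this
  have htu : Commute t (m * a * m⁻¹) := by
    obtain ⟨-, ho, -⟩ := hb1
    refine commute_iff_conj.2 ?_
    have h2 : t * (m * a * m⁻¹) * (t * (m * a * m⁻¹)) = 1 := by
      rw [← pow_two, ← ho, pow_orderOf_eq_one]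
    have h3 : (m * a * m⁻¹)⁻¹ = m * a * m⁻¹ := by
      rw [conj_inv, inv_eq_of_mul_eq_one_right (hS.sq a ha)]
    rw [inv_self ht.1.2.1]
    exact (mul_eq_one_iff_eq_inv.1 (by rw [← h2]; group)).trans h3
  obtain ⟨d, hd, hdt, hz'⟩ := hS.fuse ht a ha ha1 m hm htu
  set z' := d * (m * a * m⁻¹) * d⁻¹ with hz'def
  have hz'1 : z' ≠ 1 := fun e => ha1 (by
    rwa [hz'def, conj_eq_one_iff, conj_eq_one_iff] at e)
  have hb2 : Bad M (t * z') := by
    have h4 := hb1.conj hd
    rwa [show d * (t * (m * a * m⁻¹)) * d⁻¹ = (d * t * d⁻¹) * z' by rw [hz'def]; group,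
      commute_iff_conj.1 hdt] at h4
  intro z hz hz1
  obtain ⟨n, hn, hnt, hnz⟩ := hS.tor ht z' hz' hz'1 z hz hz1
  have := hb2.conj hn
  rwa [show n * (t * z') * n⁻¹ = (n * t * n⁻¹) * (n * z' * n⁻¹) by group,
    commute_iff_conj.1 hnt, hnz] at this

theorem split_conj {t n : G} (hn : n ∈ M) (h : Split W t) : Split W (n * t * n⁻¹) := by
  intro r hr
  have hPn := fun {y : G} (hy : y ∈ Bender43.op r W) =>
    (mem_normalizer_iff''.1 (mem_normalizer_op (hS.W_norm hn)) y).1 hy
  refine (h r hr).imp (fun h1 x hx => ?_) (fun h1 x hx => ?_)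
  · refine commute_iff_conj.2 ?_
    calc n * t * n⁻¹ * x * (n * t * n⁻¹)⁻¹ = n * (t * (n⁻¹ * x * n) * t⁻¹) * n⁻¹ := by group
      _ = x := by rw [commute_iff_conj.1 (h1 _ (hPn hx))]; group
  · calc n * t * n⁻¹ * x * (n * t * n⁻¹)⁻¹ = n * (t * (n⁻¹ * x * n) * t⁻¹) * n⁻¹ := by group
      _ = x⁻¹ := by rw [h1 _ (hPn hx)]; group

/-- With a bad involution, `A` centralises `W`. -/
theorem commute_of_bad {t : G} (ht : Bad M t) : ∀ a ∈ A, ∀ w ∈ W, Commute a w := by
  obtain ⟨m₁, hm₁, hc₁⟩ := hS.norm ht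
  obtain ⟨t₀, ht₀, hsp⟩ := hS.exists_split (t := m₁ * t * m₁⁻¹) ⟨ht.conj hm₁, hc₁⟩
  obtain ⟨a, ha, b, hb, ha1, hb1, hab⟩ := hS.exists_three
  set s := t₀ * a with hs
  have hsb : Cen M A s := ⟨hS.bad_mul ht₀ a ha ha1, fun z hz =>
    (ht₀.2 z hz).mul_left (PN72.elem_comm hS.elem ha hz)⟩
  have hall : ∀ z ∈ A, z ≠ 1 → Split W (s * z) := by
    intro z hz hz1
    obtain ⟨n, hn, hns, hnz⟩ := hS.tor hsb a ha ha1 z hz hz1
    have h0 : s * a = t₀ := by rw [hs, mul_assoc, hS.sq a ha, mul_one]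
    have h1 := hS.split_conj hn (h0 ▸ hsp)
    rwa [show n * (s * a) * n⁻¹ = (n * s * n⁻¹) * (n * a * n⁻¹) by group,
      commute_iff_conj.1 hns, hnz] at h1
  have hkey : ∀ r : ℕ, r.Prime → ∀ z ∈ A, ∀ x ∈ Bender43.op r W, Commute z x := by
    intro r hr
    have pair : ∀ z₁ ∈ A, ∀ z₂ ∈ A, z₁ ≠ z₂ →
        ((∀ x ∈ Bender43.op r W, Commute (s * z₁) x) ∧ (∀ x ∈ Bender43.op r W, Commute (s * z₂) x) ∨
        (∀ x ∈ Bender43.op r W, s * z₁ * x * (s * z₁)⁻¹ = x⁻¹) ∧
          ∀ x ∈ Bender43.op r W, s * z₂ * x * (s * z₂)⁻¹ = x⁻¹) →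
        ∀ z ∈ A, ∀ x ∈ Bender43.op r W, Commute z x := by
      intro z₁ hz₁ z₂ hz₂ hne hsame
      have hprod : s * z₁ * (s * z₂) = z₁ * z₂ := by
        have hc := hsb.2 z₁ hz₁
        calc s * z₁ * (s * z₂) = s * (z₁ * s) * z₂ := by group
          _ = s * (s * z₁) * z₂ := by rw [hc.eq]
          _ = (s * s) * (z₁ * z₂) := by group
          _ = _ := by rw [← pow_two, ← hsb.1.2.1, pow_orderOf_eq_one, one_mul]
      have hz3 : ∀ x ∈ Bender43.op r W, Commute (z₁ * z₂) x := by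
        intro x hx
        rw [← hprod]
        rcases hsame with ⟨h1, h2⟩ | ⟨h1, h2⟩
        · exact (h1 x hx).mul_left (h2 x hx)
        · refine commute_iff_conj.2 ?_
          calc s * z₁ * (s * z₂) * x * (s * z₁ * (s * z₂))⁻¹
              = s * z₁ * (s * z₂ * x * (s * z₂)⁻¹) * (s * z₁)⁻¹ := by group
            _ = s * z₁ * x⁻¹ * (s * z₁)⁻¹ := by rw [h2 x hx]
            _ = x := by rw [h1 _ (inv_mem hx), inv_inv]
      have h121 : z₁ * z₂ ≠ 1 := fun e =>
        hne (((mul_eq_one_iff_eq_inv.1 e)).trans (inv_eq_of_mul_eq_one_right (hS.sq z₂ hz₂)))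
      intro z hz x hx
      by_cases hz1 : z = 1
      · rw [hz1]; exact Commute.one_left x
      obtain ⟨n, hn, -, hnz⟩ := hS.tor hsb _ (mul_mem hz₁ hz₂) h121 z hz hz1
      have h3 := hz3 _ ((mem_normalizer_iff''.1 (mem_normalizer_op (hS.W_norm hn)) x).1 hx)
      refine commute_iff_conj.2 ?_
      rw [← hnz]
      calc n * (z₁ * z₂) * n⁻¹ * x * (n * (z₁ * z₂) * n⁻¹)⁻¹
          = n * ((z₁ * z₂) * (n⁻¹ * x * n) * (z₁ * z₂)⁻¹) * n⁻¹ := by group
        _ = x := by rw [commute_iff_conj.1 h3]; group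
    have hab1 : a * b ≠ 1 := fun e =>
      hab ((mul_eq_one_iff_eq_inv.1 e).trans (inv_eq_of_mul_eq_one_right (hS.sq b hb)))
    have hna : a ≠ a * b := fun e => hb1 (mul_eq_left.1 e.symm)
    have hnb : b ≠ a * b := fun e => ha1 (mul_eq_right.1 e.symm)
    rcases hall a ha ha1 r hr with p1 | p1 <;> rcases hall b hb hb1 r hr with p2 | p2 <;>
      rcases hall (a * b) (mul_mem ha hb) hab1 r hr with p3 | p3
    · exact pair a ha b hb hab (Or.inl ⟨p1, p2⟩)
    · exact pair a ha b hb hab (Or.inl ⟨p1, p2⟩)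
    · exact pair a ha _ (mul_mem ha hb) hna (Or.inl ⟨p1, p3⟩)
    · exact pair b hb _ (mul_mem ha hb) hnb (Or.inr ⟨p2, p3⟩)
    · exact pair b hb _ (mul_mem ha hb) hnb (Or.inl ⟨p2, p3⟩)
    · exact pair a ha _ (mul_mem ha hb) hna (Or.inr ⟨p1, p3⟩)
    · exact pair a ha b hb hab (Or.inr ⟨p1, p2⟩)
    · exact pair a ha b hb hab (Or.inr ⟨p1, p2⟩)
  intro z hz w hw
  by_cases hz1 : z = 1
  · rw [hz1]; exact Commute.one_left w
  exact commute_of_cores hS.W_odd (hS.order_two hz hz1) (hS.W_norm (hS.le hz))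
    (fun q hq x hx => hkey q hq z hz x hx) w hw

end Setup

end Cfsg.Agent.ThreePrime73
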