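import Cfsg.Agent.ThreePrime72.Defs
import Cfsg.Agent.ThreePrime72.Join
import Cfsg.Agent.ThreePrime73.WTriv
import Cfsg.Agent.ThreePrime73.Layer

/-!
A bad involution forces `A` to centralise `W A`: the data for `Setup.commute_of_bad`.
-/

set_option autoImplicit false
set_option linter.style.haveILetI false

open Subgroup

namespace Cfsg.Agent.ThreePrime73

universe u

section

variable {G : Type u} [Group G] {M : Subgroup G}

theorem smul_base_eq_iff {g : G} : g • ((1 : G) : G ⧸ M) = ((1 : G) : G ⧸ M) ↔ g ∈ M := by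
  rw [MulAction.Quotient.smul_mk, smul_eq_mul, mul_one, QuotientGroup.eq, mul_one, inv_mem_iff]

theorem smul_coset_eq_iff {t g : G} : t • (g : G ⧸ M) = (g : G ⧸ M) ↔ g⁻¹ * t * g ∈ M := by
  rw [MulAction.Quotient.smul_mk, smul_eq_mul, QuotientGroup.eq, ← inv_mem_iff]
  rw [mul_inv_rev, inv_inv, mul_assoc]

theorem badInv_of_bad {t : G} (ht : Bad M t) : ThreePrime74.BadInv (G ⧸ M) t := by
  obtain ⟨htM, ho, hn⟩ := ht
  obtain ⟨c, hc, hcM⟩ := Set.not_subset.1 hn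
  refine ⟨fun h => by rw [h, orderOf_one] at ho; omega, ?_, ((1 : G) : G ⧸ M), (c : G ⧸ M),
    fun e => ?_, smul_base_eq_iff.2 htM, smul_coset_eq_iff.2 ?_⟩
  · rw [← pow_two, ← ho, pow_orderOf_eq_one]
  · rw [QuotientGroup.eq, inv_one, one_mul] at e
    exact hcM e
  · rwa [mul_assoc, ← mem_centralizer_singleton_iff.1 hc, inv_mul_cancel_left]

end

/-- A 2-element of a group containing `A` fused into `A` by that group. -/
theorem exists_fuse {G : Type u} [Group G] [Finite G] {S : Sylow 2 G} {A X : Subgroup G}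
    (hc : ThreePrime24.Control S A) (hel : Cfsg.IsElementaryAbelian 2 A) (hAX : A ≤ X) {a m : G}
    (ha : a ∈ A) (hu : m * a * m⁻¹ ∈ X) :
    ∃ c ∈ X, c * (m * a * m⁻¹) * c⁻¹ ∈ A := by
  haveI : Fact (Nat.Prime 2) := ⟨Nat.prime_two⟩
  obtain ⟨T, hT, hAT⟩ := Bender85.BadTop.exists_max_ge (PN72.isPGroup_elem hel) hAX
  have hu2 : IsPGroup 2 (zpowers (m * a * m⁻¹)) := by
    intro x
    obtain ⟨x, j, rfl⟩ := x
    refine ⟨1, Subtype.ext ?_⟩
    have h1 : (m * a * m⁻¹) ^ 2 = 1 := by rw [conj_pow, hel.2 a ha]; group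
    simp only [pow_one, SubgroupClass.coe_pow, coe_one]
    rw [← zpow_natCast, ← zpow_mul, mul_comm, zpow_mul, zpow_natCast, h1, one_zpow]
  obtain ⟨T', hT', huT⟩ := Bender85.BadTop.exists_max_ge hu2 (zpowers_le.2 hu)
  obtain ⟨l, hl, rfl⟩ := hT.exists_conj hT'
  have hcu : l⁻¹ * (m * a * m⁻¹) * l ∈ T := by
    obtain ⟨x, hx, he⟩ := huT (mem_zpowers _)
    rw [← he]
    simpa [mul_assoc] using hx
  obtain ⟨Q, hQ⟩ := hT.pgroup.exists_le_sylow
  obtain ⟨g, hg⟩ := MulAction.exists_smul_eq G Q S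
  have hTS : ∀ x ∈ T, g * x * g⁻¹ ∈ (S : Subgroup G) := fun x hx => by
    rw [← hg]
    exact ⟨x, hQ hx, rfl⟩
  have hgN : g ∈ normalizer (A : Set G) :=
    ThreePrime24.mem_normalizer_of_conj_le hc.sc fun x hx => hTS x (hAT hx)
  refine ⟨l⁻¹, inv_mem hl, ?_⟩
  rw [inv_inv]
  refine (mem_normalizer_iff.1 hgN _).2 ?_
  have h1 : g * (l⁻¹ * (m * a * m⁻¹) * l) * g⁻¹ = (g * l⁻¹ * m) * a * (g * l⁻¹ * m)⁻¹ := by group
  rw [h1]
  exact hc.sc.2 a ha _ (h1 ▸ hTS _ hcu)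

open ThreePrime72 in
/-- A bad involution forces `A` to centralise `W A`. -/
theorem wComm (hF : FunctorStmt.{u}) (hX : XDataStmt.{u}) (hfix : FixTransStmt.{u})
    (hloc : BadLocalStmt.{u}) : WCommStmt.{u} := by
  intro G _ _ hG S A M hM t ht hAt
  haveI := hG.simple
  obtain ⟨htr, hone, -, -, -⟩ := hfix G hG S A M hM
  obtain ⟨hloc1, hloc2⟩ := hloc G hG S A M hM
  have h := hM.toSetup
  have hsq : ∀ a ∈ A, a * a = 1 := fun a ha => h.sq ha
  have hAM : A ≤ M := le_normalizer.trans hM.nle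
  have hcore : M.normalCore = ⊥ :=
    (inferInstance : M.normalCore.Normal).eq_bot_or_eq_top.resolve_right fun e =>
      hM.proper (top_le_iff.1 (e ▸ M.normalCore_le))
  have hconj : ∀ a ∈ A, a ≠ 1 → ∀ g : G, g * a * g⁻¹ ∈ M → g ∈ M := fun a ha ha1 g hg =>
    h.ctl.key hsq hM.nle hM.cle ha ha1 hg
  have hth : ∀ s : G, th s = Bender43.op' 2 (centralizer ({s} : Set G)) := fun s => rfl
  have hAC : ∀ {s : G}, (∀ a ∈ A, Commute s a) → A ≤ centralizer ({s} : Set G) := fun hs a ha =>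
    mem_centralizer_singleton_iff.2 (hs a ha).eq.symm
  have hne : ∀ {s : G}, orderOf s = 2 → s ≠ 1 ∧ s * s = 1 := fun {s} ho =>
    ⟨fun e => by rw [e, orderOf_one] at ho; omega, by rw [← pow_two, ← ho, pow_orderOf_eq_one]⟩
  have hlayer : ∀ {s : G}, Cen M A s → ∀ Y : Subgroup G, Y ≠ ⊤ → centralizer ({s} : Set G) ≤ Y →
      (∀ y ∈ Y, y⁻¹ * s * y ∈ M) ∧ ∀ B : Subgroup G, B ≤ Y ⊓ M → Odd (Nat.card B) →
        Y ⊓ M ≤ normalizer (B : Set G) → B ≤ Bender43.op' 2 Y := by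
    intro s hs Y hY hCY
    have hAY : A ≤ Y := (hAC hs.2).trans hCY
    obtain ⟨K, D⟩ := hX G hG S A M hM Y hAY hY fun e => hs.1.2.2 (hCY.trans e)
    have hOM : Bender43.op' 2 Y ≤ M :=
      PN72.le_of_gen h.elem (by have := h.big; omega)
        (hAY.trans (Bender43.le_normalizer_op' 2 Y)) (odd_op' Y).not_two_dvd_nat
        fun b hb hb1 => inf_le_right.trans (hM.cle b hb hb1)
    obtain ⟨h1, h2⟩ := layer_facts D hAM hM.nle hOM hconj
    exact ⟨h1 s hs.1.1 hs.1.2.1 hCY hs.1.2.2 hs.2, h2⟩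
  have hfix' : ∀ {s : G}, Cen M A s → ∀ g : G, g⁻¹ * s * g ∈ M →
      ∃ c : G, Commute c s ∧ c⁻¹ * g ∈ M := by
    intro s hs g hg
    obtain ⟨c, hc, hce⟩ := htr s (hne hs.1.2.1).1 (hne hs.1.2.1).2 ((1 : G) : G ⧸ M) (g : G ⧸ M)
      (smul_base_eq_iff.2 hs.1.1) (smul_coset_eq_iff.2 hg)
    rw [MulAction.Quotient.smul_mk, smul_eq_mul, mul_one, QuotientGroup.eq] at hce
    exact ⟨c, hc, hce⟩
  have hsetup : Setup M A (W A) :=
    { elem := h.elem
      card_A := le_trans (by norm_num) h.big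
      le := hAM
      W_le := hM.W_le
      W_norm := hM.wn
      W_odd := Nat.not_even_iff_odd.1 fun e => (h.W_spec hF hG).1 (even_iff_two_dvd.1 e)
      cent := hM.cle
      conj_in := hconj
      fuse := fun {s} hs a ha _ m hm hsu => by
        obtain ⟨c, hc, hcA⟩ := exists_fuse h.ctl h.elem (X := M ⊓ centralizer ({s} : Set G))
          (le_inf hAM (hAC hs.2)) (m := m) ha
          ⟨M.mul_mem (M.mul_mem hm (hAM ha)) (M.inv_mem hm),
            mem_centralizer_singleton_iff.2 hsu.eq.symm⟩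
        exact ⟨c, hc.1, mem_centralizer_singleton_iff.1 hc.2, hcA⟩
      odd := fun a ha ha1 b hb hb1 g k hgk => by
        have h1 := h.ctl.odd_mul hsq hM.nle hM.cle ha ha1 hb hb1 hgk
        rwa [show g * a * g⁻¹ * (k * b * k⁻¹) =
          g * (a * (g⁻¹ * k * b * (g⁻¹ * k)⁻¹)) * g⁻¹ by group, orderOf_conj]
      core := hcore
      norm := fun {s} hs => by
        obtain ⟨m, hm, hmA⟩ := hloc2 s (badInv_of_bad hs) hs.1
        exact ⟨m, hm, fun a ha => (mem_centralizer_singleton_iff.1 (hmA ha)).symm⟩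
      tor := fun {s} hs z hz hz1 z' hz' hz'1 => by
        obtain ⟨-, -, htor⟩ := hloc1 s (badInv_of_bad hs.1) (hAC hs.2)
        obtain ⟨n, hn, hns, hnz⟩ := htor z hz hz1 z' hz' hz'1
        exact ⟨n, hM.nle hn, hns, hnz⟩
      fix := fun hs => hfix' hs
      coreC := fun {s} hs =>
        hth s ▸ (h.W_inf_centralizer hF hG (hne hs.1.2.1).1 (hne hs.1.2.1).2 (hAC hs.2)).1
      inter := fun {s} hs =>
        hth s ▸ (h.W_inf_centralizer hF hG (hne hs.1.2.1).1 (hne hs.1.2.1).2 (hAC hs.2)).2.le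
      prod := fun {s} hs Y hY hCY y hy => by
        obtain ⟨c, hc, hm⟩ := hfix' hs y⁻¹ ((hlayer hs Y hY hCY).1 _ (inv_mem hy))
        have hcY : c ∈ Y := hCY (mem_centralizer_singleton_iff.2 hc.eq)
        exact ⟨(c⁻¹ * y⁻¹)⁻¹,
          ⟨Y.inv_mem (Y.mul_mem (Y.inv_mem hcY) (Y.inv_mem hy)), M.inv_mem hm⟩, c⁻¹, hc.inv_left, by group⟩
      absorb := fun hs Y hY hCY => (hlayer hs Y hY hCY).2 }
  obtain ⟨htM, hnle, -⟩ := hloc1 t ht hAt
  have hbad : Bad M t :=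
    ⟨htM, orderOf_eq_prime (by rw [pow_two, ht.2.1]) ht.1, hnle⟩
  exact fun a ha => mem_centralizer_iff.2 fun w hw => (hsetup.commute_of_bad hbad a ha w hw).eq.symm

end Cfsg.Agent.ThreePrime73
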